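import Cfsg.Agent.Lib.DicksonFull.Subfield
import Cfsg.Agent.Lib.Dickson.SL2
import Mathlib.FieldTheory.IntermediateField.Adjoin.Basic
import Mathlib.RingTheory.IntegralClosure.Algebra.Basic

/-!
# Subgroups of `PSL₂` of order divisible exactly once by `p`, and automorphisms fixing a unipotent
-/

set_option autoImplicit false
set_option linter.unusedSectionVars false
set_option linter.style.haveILetI false

namespace Cfsg.Agent.Lib.SmallRep.Image

open Matrix
open Cfsg.Agent.Lib.PLocal.SLTwo (up lo up_add lo_add up_zero lo_zero closure_pair_eq_top)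
open Cfsg.Agent.Lib.Dickson (coe_up coe_lo up_inv)

section Auto

variable {p : ℕ} [Fact p.Prime]

local notation "SLp" => Matrix.SpecialLinearGroup (Fin 2) (ZMod p)
local notation "PSLp" => Matrix.ProjectiveSpecialLinearGroup (Fin 2) (ZMod p)

/-- Normal form of an element of order `p`. -/
theorem unipotent_form (hp : p ≠ 2) {g : PSLp} (hg : g ^ p = 1) (hg1 : g ≠ 1) :
    (∃ s : ZMod p, s ≠ 0 ∧ g = ((up s : SLp) : PSLp)) ∨
      ∃ w t : ZMod p, t ≠ 0 ∧ g = ((up w * lo t * (up w)⁻¹ : SLp) : PSLp) := by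
  have hp2 : (2 : ZMod p) ≠ 0 := by
    intro h
    have : ((2 : ℕ) : ZMod p) = 0 := by exact_mod_cast h
    rw [ZMod.natCast_eq_zero_iff] at this
    exact hp ((Nat.prime_dvd_prime_iff_eq Fact.out Nat.prime_two).1 this)
  obtain ⟨A, rfl⟩ := QuotientGroup.mk_surjective g
  obtain ⟨r, hr, hA⟩ := Matrix.SpecialLinearGroup.mem_center_iff.1
    ((QuotientGroup.eq_one_iff (A ^ p)).1 (by rw [QuotientGroup.mk_pow]; exact hg))
  rw [show Fintype.card (Fin 2) = 2 from rfl] at hr
  haveI : CharP (Matrix (Fin 2) (Fin 2) (ZMod p)) p := inferInstance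
  set N : Matrix (Fin 2) (Fin 2) (ZMod p) := r • (A : Matrix (Fin 2) (Fin 2) (ZMod p)) - 1 with hN
  have hrr : r * r = 1 := by rw [← pow_two, hr]
  have hNp : N ^ p = 0 := by
    rw [hN, sub_pow_char_of_commute (p := p) (Commute.one_right _), smul_pow, one_pow,
      ZMod.pow_card, ← Matrix.SpecialLinearGroup.coe_pow, ← hA]
    ext i j
    fin_cases i <;> fin_cases j <;> simp [hrr]
  have hNsq : N ^ 2 = 0 := by
    have h1 : IsNilpotent (Matrix.toLinAlgEquiv' N) := ⟨p, by rw [← map_pow, hNp, map_zero]⟩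
    have h2 := h1.charpoly_eq_X_pow_finrank
    have h3 := LinearMap.aeval_self_charpoly (Matrix.toLinAlgEquiv' N)
    rw [h2, Module.finrank_fin_fun, map_pow, Polynomial.aeval_X, ← map_pow] at h3
    exact (map_eq_zero_iff _ Matrix.toLinAlgEquiv'.injective).1 h3
  have hcong : ((A : SLp) : PSLp) = (QuotientGroup.mk A : PSLp) := rfl
  -- replace `A` by the representative `1 + N`
  obtain ⟨B, hB, hBA⟩ : ∃ B : SLp, (B : Matrix (Fin 2) (Fin 2) (ZMod p)) = 1 + N ∧
      (B : PSLp) = (A : PSLp) := by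
    refine ⟨⟨r • (A : Matrix (Fin 2) (Fin 2) (ZMod p)), ?_⟩, by rw [hN]; simp, ?_⟩
    · rw [Matrix.det_smul, show Fintype.card (Fin 2) = 2 from rfl, hr, one_mul, A.2]
    · refine QuotientGroup.eq.2 (Matrix.SpecialLinearGroup.mem_center_iff.2 ⟨r, hr, ?_⟩)
      set B : SLp := ⟨r • (A : Matrix (Fin 2) (Fin 2) (ZMod p)), _⟩ with hBdef
      have h1 : (B : Matrix (Fin 2) (Fin 2) (ZMod p)) * (r • 1) =
          (A : Matrix (Fin 2) (Fin 2) (ZMod p)) := by
        rw [hBdef]
        show (r • (A : Matrix (Fin 2) (Fin 2) (ZMod p))) * (r • 1) = _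
        rw [Matrix.smul_mul, Matrix.mul_smul, mul_one, smul_smul, hrr, one_smul]
      conv_rhs => rw [Matrix.SpecialLinearGroup.coe_mul, ← h1, ← mul_assoc,
        ← Matrix.SpecialLinearGroup.coe_mul, inv_mul_cancel, Matrix.SpecialLinearGroup.coe_one,
        one_mul]
      ext i j
      fin_cases i <;> fin_cases j <;> simp
  rw [← hBA] at hg1 ⊢
  have e00 := congrFun (congrFun hNsq 0) 0
  have e01 := congrFun (congrFun hNsq 0) 1
  have e10 := congrFun (congrFun hNsq 1) 0
  have e11 := congrFun (congrFun hNsq 1) 1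
  simp [pow_two, Matrix.mul_apply, Fin.sum_univ_two] at e00 e01 e10 e11
  have hdet := B.2
  rw [Matrix.det_fin_two] at hdet
  simp [hB] at hdet
  have htr : N 0 0 + N 1 1 = 0 := by
    rcases mul_eq_zero.1 (show (N 0 0 + N 1 1) * (2 + (N 0 0 + N 1 1)) = 0 by
      linear_combination 2 * hdet + e00 + e11) with h' | h'
    · exact h'
    · exfalso
      have h4 : N 1 0 = 0 := by
        have : N 1 0 * 2 = 0 := by linear_combination -e10 + N 1 0 * h'
        exact (mul_eq_zero.1 this).resolve_right hp2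
      have h5 : N 0 0 = 0 := mul_self_eq_zero.1 (by linear_combination e00 - N 0 1 * h4)
      have h6 : N 1 1 = 0 := mul_self_eq_zero.1 (by linear_combination e11 - N 0 1 * h4)
      rw [h5, h6] at h'
      exact hp2 (by linear_combination h')
  have h11 : N 1 1 = -N 0 0 := eq_neg_of_add_eq_zero_right htr
  by_cases ht : N 1 0 = 0
  · left
    have h00 : N 0 0 = 0 := mul_self_eq_zero.1 (by linear_combination e00 - N 0 1 * ht)
    have hBup : B = up (N 0 1) := by
      apply Subtype.ext
      rw [hB, coe_up]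
      ext i j
      fin_cases i <;> fin_cases j <;> simp [h00, h11, ht]
    refine ⟨N 0 1, ?_, by rw [hBup]⟩
    intro h
    rw [h, up_zero] at hBup
    exact hg1 (by rw [hBup]; rfl)
  · right
    refine ⟨N 0 0 / N 1 0, N 1 0, ht, ?_⟩
    congr 1
    apply Subtype.ext
    rw [up_inv, Matrix.SpecialLinearGroup.coe_mul, Matrix.SpecialLinearGroup.coe_mul, coe_up,
      coe_lo, coe_up, hB]
    have h01 : N 0 1 = -(N 0 0 * N 0 0) / N 1 0 := by
      field_simp
      linear_combination e00
    ext i j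
    fin_cases i <;> fin_cases j <;> simp [Matrix.mul_apply, Fin.sum_univ_two, h11, h01] <;>
      field_simp <;> ring

/-- An element of order `p` is conjugate to an upper unitriangular one. -/
theorem exists_conj_up (hp : p ≠ 2) {g : PSLp} (hg : g ^ p = 1) (hg1 : g ≠ 1) :
    ∃ (h : PSLp) (s : ZMod p), s ≠ 0 ∧ g = h * ((up s : SLp) : PSLp) * h⁻¹ := by
  rcases unipotent_form hp hg hg1 with ⟨s, hs, rfl⟩ | ⟨w, t, ht, rfl⟩
  · exact ⟨1, s, hs, by simp⟩
  · let σ : SLp := ⟨!![0, 1; -1, 0], by simp [Matrix.det_fin_two]⟩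
    refine ⟨((up w * σ : SLp) : PSLp), -t, neg_ne_zero.2 ht, ?_⟩
    rw [← QuotientGroup.mk_inv, ← QuotientGroup.mk_mul, ← QuotientGroup.mk_mul]
    congr 1
    rw [_root_.mul_inv_rev]
    have hσ : σ * up (-t) = lo t * σ := by
      apply Subtype.ext
      rw [Matrix.SpecialLinearGroup.coe_mul, Matrix.SpecialLinearGroup.coe_mul, coe_up, coe_lo]
      show !![0, 1; -1, 0] * _ = _ * !![0, 1; -1, 0]
      simp [Matrix.mul_fin_two]
    rw [mul_assoc (up w) σ, hσ]
    group

/-- An automorphism fixing an element of order `p` is conjugation by one of its powers. -/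
theorem eq_conj_of_fix (hp : p ≠ 2) (γ : PSLp ≃* PSLp) {u : PSLp} (hu : u ^ p = 1) (hu1 : u ≠ 1)
    (hγu : γ u = u) : ∃ i : ℕ, ∀ g, γ g = u ^ i * g * (u ^ i)⁻¹ := by
  obtain ⟨h, s, hs, rfl⟩ := exists_conj_up hp hu hu1
  set γ₁ : PSLp ≃* PSLp := ((MulAut.conj h).trans γ).trans (MulAut.conj h).symm with hγ₁
  have hγ₁ap : ∀ g, γ₁ g = h⁻¹ * γ (h * g * h⁻¹) * h := fun g => by
    simp [hγ₁, MulAut.conj_apply]
  have hups : γ₁ ((up s : SLp) : PSLp) = ((up s : SLp) : PSLp) := by
    rw [hγ₁ap, hγu]; group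
  have hpow : ∀ (a : ZMod p) (i : ℕ), ((up a : SLp) : PSLp) ^ i = ((up (i * a) : SLp) : PSLp) :=
    fun a i => by rw [Cfsg.Agent.Lib.Dickson.up_nsmul, QuotientGroup.mk_pow]
  have hmul : ∀ a : ZMod p, ∃ i : ℕ, a = i * s := fun a => ⟨(a / s).val, by
    rw [ZMod.natCast_val, ZMod.cast_id, div_mul_cancel₀ _ hs]⟩
  have hupall : ∀ a : ZMod p, γ₁ ((up a : SLp) : PSLp) = ((up a : SLp) : PSLp) := fun a => by
    obtain ⟨i, rfl⟩ := hmul a
    rw [← hpow, map_pow, hups]
  -- the image of `lo 1`
  have hp2 : (2 : ZMod p) ≠ 0 := by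
    intro h
    have : ((2 : ℕ) : ZMod p) = 0 := by exact_mod_cast h
    rw [ZMod.natCast_eq_zero_iff] at this
    exact hp ((Nat.prime_dvd_prime_iff_eq Fact.out Nat.prime_two).1 this)
  have hmk : ∀ {A B : SLp}, ((A : SLp) : PSLp) = (B : SLp) → ∃ r : ZMod p,
      (A : Matrix (Fin 2) (Fin 2) (ZMod p)) = r • (B : Matrix (Fin 2) (Fin 2) (ZMod p)) := by
    intro A B hAB
    obtain ⟨r, -, hr⟩ := Matrix.SpecialLinearGroup.mem_center_iff.1 (QuotientGroup.eq.1 hAB.symm)
    refine ⟨r, ?_⟩
    have h1 : (B : Matrix (Fin 2) (Fin 2) (ZMod p)) * (B⁻¹ * A : SLp).1 =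
        A := by rw [← Matrix.SpecialLinearGroup.coe_mul, mul_inv_cancel_left]
    rw [← h1, ← hr]
    ext i j
    fin_cases i <;> fin_cases j <;> simp [Matrix.mul_apply, Fin.sum_univ_two, mul_comm]
  have hlop : (γ₁ ((lo 1 : SLp) : PSLp)) ^ p = 1 := by
    rw [← map_pow, ← QuotientGroup.mk_pow, ← Cfsg.Agent.Lib.Dickson.lo_nsmul, ZMod.natCast_self,
      zero_mul, lo_zero, QuotientGroup.mk_one, map_one]
  have hlo1 : ((lo 1 : SLp) : PSLp) ≠ 1 := by
    intro h0
    obtain ⟨r, hr⟩ := hmk (h0.trans (QuotientGroup.mk_one _).symm)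
    simpa [coe_lo] using congrFun (congrFun hr 1) 0
  rcases unipotent_form hp hlop (by rwa [ne_eq, map_eq_one_iff _ γ₁.injective]) with
    ⟨a, -, ha⟩ | ⟨w, t, ht, hwt⟩
  · exfalso
    rw [← hupall a] at ha
    obtain ⟨r, hr⟩ := hmk (γ₁.injective ha)
    simpa [coe_lo, coe_up] using congrFun (congrFun hr 1) 0
  set W : PSLp := ((up w : SLp) : PSLp) with hW
  have hlo : γ₁ ((lo 1 : SLp) : PSLp) = W * ((lo t : SLp) : PSLp) * W⁻¹ := by
    rw [hwt]; rfl
  have hlonat : ∀ a : ZMod p, γ₁ ((lo a : SLp) : PSLp) = W * ((lo (a * t) : SLp) : PSLp) * W⁻¹ := by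
    intro a
    obtain ⟨i, rfl⟩ : ∃ i : ℕ, a = i := ⟨a.val, by rw [ZMod.natCast_val, ZMod.cast_id]⟩
    have hi : (lo (i : ZMod p) : SLp) = lo 1 ^ i := by
      rw [← Cfsg.Agent.Lib.Dickson.lo_nsmul, mul_one]
    rw [hi, QuotientGroup.mk_pow, map_pow, hlo, conj_pow, ← QuotientGroup.mk_pow,
      ← Cfsg.Agent.Lib.Dickson.lo_nsmul]
  -- `t = 1`
  have ht1 : t = 1 := by
    set b : ZMod p := -2
    have hsq : ((up 1 * lo b : SLp) : PSLp) ^ 2 = 1 := by
      rw [← QuotientGroup.mk_pow, QuotientGroup.eq_one_iff,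
        Matrix.SpecialLinearGroup.mem_center_iff]
      refine ⟨-1, by norm_num, ?_⟩
      rw [pow_two, Matrix.SpecialLinearGroup.coe_mul, Matrix.SpecialLinearGroup.coe_mul, coe_up,
        coe_lo]
      ext i j
      fin_cases i <;> fin_cases j <;> simp [b, Matrix.mul_apply, Fin.sum_univ_two] <;> ring
    have hup1W : ((up 1 : SLp) : PSLp) = W * ((up 1 : SLp) : PSLp) * W⁻¹ := by
      rw [hW, ← QuotientGroup.mk_mul, ← QuotientGroup.mk_inv, ← QuotientGroup.mk_mul, ← up_add,
        up_inv, ← up_add]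
      congr 2
      ring
    have h2 := congrArg γ₁ hsq
    rw [map_pow, map_one, QuotientGroup.mk_mul, map_mul, hupall, hlonat, hup1W,
      show W * ((up 1 : SLp) : PSLp) * W⁻¹ * (W * ((lo (b * t) : SLp) : PSLp) * W⁻¹) =
        W * (((up 1 : SLp) : PSLp) * ((lo (b * t) : SLp) : PSLp)) * W⁻¹ by group,
      conj_pow, conj_eq_one_iff, ← QuotientGroup.mk_mul, ← QuotientGroup.mk_pow,
      ← QuotientGroup.mk_one] at h2
    obtain ⟨r, hr⟩ := hmk h2
    have h01 := congrFun (congrFun hr 0) 1
    rw [pow_two, Matrix.SpecialLinearGroup.coe_mul, Matrix.SpecialLinearGroup.coe_mul, coe_up,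
      coe_lo] at h01
    simp [b, Matrix.mul_apply, Fin.sum_univ_two] at h01
    have : 2 * (1 - t) = 0 := by linear_combination h01
    exact (sub_eq_zero.1 ((mul_eq_zero.1 this).resolve_left hp2)).symm
  -- conclude on generators
  have hγ₁ : ∀ g, γ₁ g = W * g * W⁻¹ := by
    intro g
    obtain ⟨A, rfl⟩ := QuotientGroup.mk_surjective g
    have hA : A ∈ Subgroup.closure ({up (1 : ZMod p), lo 1} : Set SLp) := by
      rw [closure_pair_eq_top]; trivial
    induction hA using Subgroup.closure_induction with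
    | mem y hy =>
      rcases hy with rfl | rfl
      · rw [hupall, hW, ← QuotientGroup.mk_mul, ← QuotientGroup.mk_inv, ← QuotientGroup.mk_mul,
          ← up_add, up_inv, ← up_add]
        congr 2
        ring
      · rw [hlo, ht1]
    | one => simp
    | mul a b _ _ ha hb =>
      rw [QuotientGroup.mk_mul, map_mul, ha, hb]; group
    | inv a _ ha => rw [QuotientGroup.mk_inv, map_inv, ha]; group
  obtain ⟨i, hi⟩ := hmul w
  refine ⟨i, fun g => ?_⟩
  have := hγ₁ (h⁻¹ * g * h)
  rw [hγ₁ap, show h * (h⁻¹ * g * h) * h⁻¹ = g by group, hW, hi, ← hpow] at this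
  rw [conj_pow]
  calc γ g = h * (h⁻¹ * γ g * h) * h⁻¹ := by group
    _ = _ := by rw [this]; group

end Auto

/-- The image in `PSL₂` is `PSL₂(p)`. -/
theorem exists_surj {k : Type*} [Field k] {p : ℕ} [Fact p.Prime] [CharP k p] [Algebra (ZMod p) k]
    (hint : ∀ a : k, IsIntegral (ZMod p) a) {G : Type*} [Group G] [Finite G] (hp5 : 5 ≤ p)
    {x : G} (hx : orderOf x = p) (hG : ¬ p ^ 2 ∣ Nat.card G)
    (hgen : Subgroup.normalClosure {x} = ⊤)
    (φ : G →* Matrix.ProjectiveSpecialLinearGroup (Fin 2) k) (hφx : φ x ≠ 1)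
    (hncomm : ¬ ∀ a b, Commute (φ a) (φ b)) :
    ∃ π : G →* Matrix.ProjectiveSpecialLinearGroup (Fin 2) (ZMod p),
      Function.Surjective π ∧ π.ker = φ.ker := by
  classical
  haveI := Fintype.ofFinite G
  choose A hA using fun g => QuotientGroup.mk_surjective (φ g)
  set S : Set k := Set.range fun t : G × Fin 2 × Fin 2 =>
    (A t.1 : Matrix (Fin 2) (Fin 2) k) t.2.1 t.2.2
  set K := IntermediateField.adjoin (ZMod p) S
  haveI : Finite S := (Set.finite_range _).to_subtype
  haveI : FiniteDimensional (ZMod p) K :=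
    IntermediateField.finiteDimensional_adjoin fun a _ => hint a
  haveI : Finite K := Module.finite_of_finite (ZMod p)
  letI := Fintype.ofFinite K
  haveI : CharP K p := charP_of_injective_algebraMap (algebraMap (ZMod p) K).injective p
  set f : K →+* k := K.val.toRingHom
  have hmem : ∀ g i j, (A g : Matrix (Fin 2) (Fin 2) k) i j ∈ K := fun g i j =>
    IntermediateField.subset_adjoin _ _ ⟨(g, i, j), rfl⟩
  let B : G → Matrix.SpecialLinearGroup (Fin 2) K := fun g =>
    ⟨Matrix.of fun i j => ⟨_, hmem g i j⟩, by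
      apply f.injective
      rw [RingHom.map_det, map_one]
      exact (A g).2⟩
  have hB : ∀ g, DicksonFull.pslExt f (B g : Matrix.ProjectiveSpecialLinearGroup (Fin 2) K) =
      φ g := fun g => by
    rw [DicksonFull.pslExt_mk, ← hA g]
    congr 1
  let φ' : G →* Matrix.ProjectiveSpecialLinearGroup (Fin 2) K :=
    MonoidHom.mk' (fun g => (B g : Matrix.ProjectiveSpecialLinearGroup (Fin 2) K)) fun a b => by
      apply DicksonFull.pslExt_injective f
      rw [map_mul, hB, hB, hB, map_mul]
  have hcomp : (DicksonFull.pslExt f).comp φ' = φ := MonoidHom.ext hB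
  have hker : φ'.ker = φ.ker := by
    rw [← hcomp, MonoidHom.ker_comp_of_injective _ _ (DicksonFull.pslExt_injective f)]
  set M := φ'.range
  have hxM : (φ'.rangeRestrict x) ≠ 1 := fun h => hφx (by
    rw [← hB, show (B x : Matrix.ProjectiveSpecialLinearGroup (Fin 2) K) = φ' x from rfl,
      show φ' x = 1 from congrArg Subtype.val h, map_one])
  have hxpow : x ^ p = 1 := orderOf_dvd_iff_pow_eq_one.1 (dvd_of_eq hx)
  have hxp : (φ'.rangeRestrict x) ^ p = 1 := by rw [← map_pow, hxpow, map_one]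
  have hxo : orderOf (φ'.rangeRestrict x) = p := orderOf_eq_prime hxp hxM
  have hpM : p ∣ Nat.card M := (dvd_of_eq hxo.symm).trans (orderOf_dvd_natCard _)
  have hp2M : ¬ p ^ 2 ∣ Nat.card M := fun h => hG (h.trans
    (Subgroup.card_dvd_of_surjective φ'.rangeRestrict φ'.rangeRestrict_surjective))
  have hgenM : Subgroup.normalClosure {φ'.rangeRestrict x} = ⊤ := by
    rw [eq_top_iff]
    intro y _
    obtain ⟨g, rfl⟩ := φ'.rangeRestrict_surjective y
    have h : Subgroup.normalClosure {x} ≤
        (Subgroup.normalClosure {φ'.rangeRestrict x}).comap φ'.rangeRestrict :=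
      Subgroup.normalClosure_le_normal (Set.singleton_subset_iff.2
        (Subgroup.subset_normalClosure rfl))
    exact h (by rw [hgen]; trivial)
  -- not commutative
  have hnab : ¬ ∀ a b : M, a ^ p = 1 → b ^ p = 1 → Commute a b := by
    intro h
    apply hncomm
    have hcl : Subgroup.closure (Group.conjugatesOfSet {φ'.rangeRestrict x}) = ⊤ := hgenM
    have hall : ∀ a b : M, Commute a b := by
      intro a b
      have key : ∀ y ∈ Group.conjugatesOfSet {φ'.rangeRestrict x}, y ^ p = 1 := by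
        intro y hy
        obtain ⟨z, hz, hconj⟩ := Group.mem_conjugatesOfSet_iff.1 hy
        rw [Set.mem_singleton_iff] at hz
        rw [hz] at hconj
        obtain ⟨c, rfl⟩ := isConj_iff.1 hconj
        rw [conj_pow, hxp, mul_one, mul_inv_cancel]
      have ha : a ∈ Subgroup.closure (Group.conjugatesOfSet {φ'.rangeRestrict x}) := by
        rw [hcl]; trivial
      induction ha using Subgroup.closure_induction with
      | mem y hy =>
        have hb : b ∈ Subgroup.closure (Group.conjugatesOfSet {φ'.rangeRestrict x}) := by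
          rw [hcl]; trivial
        induction hb using Subgroup.closure_induction with
        | mem z hz => exact h y z (key y hy) (key z hz)
        | one => exact Commute.one_right _
        | mul _ _ _ _ h1 h2 => exact h1.mul_right h2
        | inv _ _ h1 => exact h1.inv_right
      | one => exact Commute.one_left _
      | mul _ _ _ _ h1 h2 => exact h1.mul_left h2
      | inv _ _ h1 => exact h1.inv_left
    intro a b
    have := congrArg Subtype.val (hall (φ'.rangeRestrict a) (φ'.rangeRestrict b)).eq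
    rw [← hcomp]
    exact (Commute.map (show Commute (φ' a) (φ' b) from this) (DicksonFull.pslExt f))
  -- the order
  have hcardM : 2 * Nat.card M + p = p ^ 3 ∨ Nat.card M + p = p ^ 3 := by
    rcases DicksonFull.dvd_cases (p := p) M hpM with ⟨-, h, -⟩ | ⟨q, k', hk, hq, hk1, -, hc⟩
    · exact absurd h hnab
    · have hk' : k' = 1 := by
        by_contra hne
        exact hp2M ((pow_dvd_pow p (show 2 ≤ k' by omega)).trans hk1)
      subst hk'
      rw [pow_one] at hq
      subst hq
      rcases hc with ⟨h, -⟩ | ⟨-, h⟩ | ⟨h, -⟩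
      · omega
      · exact h
      · omega
  -- the copy of `SL₂(p)`
  set q : Matrix.SpecialLinearGroup (Fin 2) K →* Matrix.ProjectiveSpecialLinearGroup (Fin 2) K :=
    QuotientGroup.mk' _
  set Hs := M.comap q
  let r : Hs →* M :=
    { toFun := fun y => ⟨q y, y.2⟩
      map_one' := Subtype.ext (map_one q)
      map_mul' := fun a b => Subtype.ext (map_mul q a.1 b.1) }
  have hr : Function.Surjective r := by
    rintro ⟨y, hy⟩
    obtain ⟨z, rfl⟩ := QuotientGroup.mk'_surjective _ y
    exact ⟨⟨z, hy⟩, rfl⟩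
  have hsyl : 1 < Nat.card (Sylow p Hs) := by
    by_contra h
    haveI : Subsingleton (Sylow p Hs) := Finite.card_le_one_iff_subsingleton.1 (by omega)
    obtain ⟨P⟩ := (inferInstance : Nonempty (Sylow p Hs))
    haveI : (P : Subgroup Hs).Normal := P.normal_of_subsingleton
    haveI : ((P.mapSurjective hr : Sylow p M) : Subgroup M).Normal := by
      rw [Sylow.coe_mapSurjective]; exact Subgroup.Normal.map inferInstance r hr
    set P' := P.mapSurjective hr
    have hP'card : Nat.card P' = p := by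
      rw [P'.card_eq_multiplicity]
      have h1 := (Fact.out : p.Prime).dvd_iff_one_le_factorization Nat.card_pos.ne' |>.1 hpM
      have h2 : ¬ 2 ≤ (Nat.card M).factorization p := fun h2 => hp2M
        ((Nat.Prime.pow_dvd_iff_le_factorization Fact.out Nat.card_pos.ne').2 h2)
      rw [show (Nat.card M).factorization p = 1 by omega, pow_one]
    apply hnab
    intro a b ha hb
    have hmem : ∀ y : M, y ^ p = 1 → y ∈ (P' : Subgroup M) := by
      intro y hy
      have hyP : IsPGroup p (Subgroup.zpowers y) := by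
        rw [IsPGroup.iff_card]
        rcases (Nat.dvd_prime Fact.out).1 (orderOf_dvd_of_pow_eq_one hy) with h' | h'
        · exact ⟨0, by rw [Nat.card_zpowers, h', pow_zero]⟩
        · exact ⟨1, by rw [Nat.card_zpowers, h', pow_one]⟩
      obtain ⟨Q, hQ⟩ := hyP.exists_le_sylow
      haveI := Sylow.unique_of_normal P' inferInstance
      rw [← Subsingleton.elim Q P']
      exact hQ (Subgroup.mem_zpowers y)
    haveI : Fact (Nat.card P').Prime := ⟨hP'card.symm ▸ Fact.out⟩
    haveI : IsCyclic P' := isCyclic_of_prime_card rfl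
    letI := IsCyclic.commGroup (α := P')
    exact congrArg Subtype.val (mul_comm (⟨a, hmem a ha⟩ : P') ⟨b, hmem b hb⟩)
  obtain ⟨ψ, hψ, hψle⟩ := Dickson.hasSL2Copy_of_sylow (p := p) (by omega) Hs hsyl
  set ψM : Matrix.SpecialLinearGroup (Fin 2) (ZMod p) →* M :=
    r.comp ((Subgroup.inclusion hψle).comp ψ.rangeRestrict)
  have hkerle : ψM.ker ≤ Subgroup.center _ := by
    intro a ha
    have h1 : q (ψ a) = 1 := congrArg Subtype.val ha
    rw [QuotientGroup.mk'_apply, QuotientGroup.eq_one_iff] at h1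
    rw [Subgroup.mem_center_iff] at h1 ⊢
    intro b
    exact hψ (by rw [map_mul, map_mul]; exact h1 (ψ b))
  have hpodd : Odd (Fintype.card (ZMod p)) := by
    rw [ZMod.card]; exact (Fact.out : p.Prime).odd_of_ne_two (by omega)
  have hcardP := DicksonFull.card_psl_odd hpodd
  rw [ZMod.card] at hcardP
  have hlo : Nat.card (Matrix.ProjectiveSpecialLinearGroup (Fin 2) (ZMod p)) ≤
      Nat.card ψM.range := by
    rw [← Nat.card_congr (QuotientGroup.quotientKerEquivRange ψM).toEquiv]
    exact Nat.card_le_card_of_surjective (QuotientGroup.map ψM.ker (Subgroup.center _)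
      (MonoidHom.id _) (by rwa [Subgroup.comap_id])) (fun y => by
        obtain ⟨z, rfl⟩ := QuotientGroup.mk_surjective y
        exact ⟨z, rfl⟩)
  have hidx : ψM.range.index ≤ 2 := by
    have h1 := ψM.range.card_mul_index
    have h2 : 2 * Nat.card ψM.range + p ≥ p ^ 3 := by omega
    have h3 : Nat.card M + p ≤ p ^ 3 := by omega
    by_contra h4
    have : 3 * Nat.card ψM.range ≤ Nat.card M := by
      rw [← h1, mul_comm 3]; exact Nat.mul_le_mul_left _ (by omega)
    have := Nat.card_pos (α := ψM.range)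
    omega
  have hRtop : ψM.range = ⊤ := by
    haveI : ψM.range.Normal := by
      rcases Nat.lt_or_ge ψM.range.index 2 with h | h
      · have : ψM.range.index = 1 := by
          have := Subgroup.index_ne_zero_of_finite (H := ψM.range)
          omega
        rw [Subgroup.index_eq_one.1 this]
        infer_instance
      · exact Subgroup.normal_of_index_eq_two (by omega)
    refine top_le_iff.1 (hgenM ▸ Subgroup.normalClosure_le_normal (Set.singleton_subset_iff.2 ?_))
    rw [SetLike.mem_coe, ← QuotientGroup.eq_one_iff, ← orderOf_eq_one_iff]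
    have h1 : orderOf (QuotientGroup.mk (φ'.rangeRestrict x) : M ⧸ ψM.range) ∣ p :=
      orderOf_dvd_of_pow_eq_one (by rw [← QuotientGroup.mk_pow, hxp, QuotientGroup.mk_one])
    have h2 : orderOf (QuotientGroup.mk (φ'.rangeRestrict x) : M ⧸ ψM.range) ≤ 2 :=
      (Nat.le_of_dvd Nat.card_pos (orderOf_dvd_natCard _)).trans
        (by rw [← Subgroup.index_eq_card]; exact hidx)
    rcases (Nat.dvd_prime Fact.out).1 h1 with h | h
    · exact h
    · omega
  have hsurj : Function.Surjective ψM := MonoidHom.range_eq_top.1 hRtop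
  have hkereq : ψM.ker = Subgroup.center _ := by
    refine le_antisymm hkerle fun a ha => ?_
    -- the centre goes to the centre of `M`, which is trivial
    obtain ⟨r₀, hr0, hra⟩ := Matrix.SpecialLinearGroup.mem_center_iff.1 ha
    have ha2 : a ^ 2 = 1 := by
      apply Subtype.ext
      rw [pow_two, Matrix.SpecialLinearGroup.coe_mul, Matrix.SpecialLinearGroup.coe_one, ← hra,
        ← map_mul, ← pow_two, show r₀ ^ 2 = 1 from hr0, map_one]
    have h1 : (ψ a) ^ 2 = 1 := by rw [← map_pow, ha2, map_one]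
    show ψM a = 1
    refine Subtype.ext ?_
    show q (ψ a) = 1
    rw [QuotientGroup.mk'_apply, QuotientGroup.eq_one_iff]
    have h2K : (2 : K) ≠ 0 := by
      intro h
      have : ((2 : ℕ) : K) = 0 := by exact_mod_cast h
      rw [CharP.cast_eq_zero_iff K p] at this
      have := Nat.le_of_dvd two_pos this
      omega
    by_cases hψa : ψ a = 1
    · rw [hψa]; exact one_mem _
    have hneg := Linear.eq_neg_one_of_mul_self h2K hψa (by rw [← pow_two, h1])
    rw [Matrix.SpecialLinearGroup.mem_center_iff]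
    refine ⟨-1, by norm_num, ?_⟩
    rw [hneg, map_neg, map_one]
  let e : Matrix.ProjectiveSpecialLinearGroup (Fin 2) (ZMod p) ≃* M :=
    (QuotientGroup.quotientMulEquivOfEq hkereq.symm).trans
      (QuotientGroup.quotientKerEquivOfSurjective ψM hsurj)
  refine ⟨e.symm.toMonoidHom.comp φ'.rangeRestrict,
    e.symm.surjective.comp φ'.rangeRestrict_surjective, ?_⟩
  rw [← hker, MonoidHom.ker_comp_of_injective _ _ e.symm.injective]
  exact MonoidHom.ker_rangeRestrict φ'

end Cfsg.Agent.Lib.SmallRep.Image
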