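import Cfsg.Agent.Lib.SmallRep.Adjoint
import Cfsg.Agent.Lib.SmallRep.Image
import Cfsg.Agent.Lib.Linear.Simple

/-!
# Groups with a small faithful modular representation

If `H` is generated by conjugates of an element of order `p`, `p² ∤ |H|`, `H` has no non-trivial
`p`-element acting trivially and a representation in characteristic `p` of dimension less than
`p / 2` is faithful on it, then `H` modulo its centre is `PSL₂(p)`.
-/

set_option autoImplicit false
set_option linter.unusedSectionVars false
set_option linter.style.haveILetI false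

namespace Cfsg.Agent.Lib.SmallRep.Faithful

universe u v

variable {k : Type u} [Field k] {H : Type v} [Group H] [Finite H]

/-- An element trivial on all irreducible representations acts unipotently. -/
theorem nilpotent_of_irreducible (u : H) (N : ℕ)
    (hirr : ∀ (V : Type u) [AddCommGroup V] [Module k V] [FiniteDimensional k V],
      ∀ c : H →* Module.End k V, Nontrivial V →
        (∀ S : Submodule k V, (∀ g, ∀ v ∈ S, c g v ∈ S) → S = ⊥ ∨ S = ⊤) →
        Module.finrank k V ≤ N → c u = 1) :
    ∀ (n : ℕ) (V : Type u) [AddCommGroup V] [Module k V] [FiniteDimensional k V],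
      ∀ c : H →* Module.End k V, Module.finrank k V = n → n ≤ N → IsNilpotent (c u - 1) := by
  intro n
  induction n using Nat.strong_induction_on with
  | _ n ih =>
    intro V _ _ _ c hn hnN
    rcases subsingleton_or_nontrivial V with hV | hV
    · exact ⟨1, LinearMap.ext fun v => Subsingleton.elim _ _⟩
    by_cases hred : ∀ S : Submodule k V, (∀ g, ∀ v ∈ S, c g v ∈ S) → S = ⊥ ∨ S = ⊤
    · rw [hirr V c hV hred (by omega), sub_self]
      exact IsNilpotent.zero
    push Not at hred
    obtain ⟨S, hS, hS0, hS1⟩ := hred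
    let cS : H →* Module.End k S :=
      { toFun := fun g => (c g).restrict (hS g)
        map_one' := LinearMap.ext fun v => Subtype.ext (by simp)
        map_mul' := fun a b => LinearMap.ext fun v => Subtype.ext (by simp) }
    let cQ : H →* Module.End k (V ⧸ S) :=
      { toFun := fun g => S.mapQ S (c g) (hS g)
        map_one' := Submodule.linearMap_qext _ (LinearMap.ext fun v => by simp)
        map_mul' := fun a b => Submodule.linearMap_qext _ (LinearMap.ext fun v => by simp) }
    have hlt : Module.finrank k S < n := hn ▸ Submodule.finrank_lt hS1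
    have hlt' : Module.finrank k (V ⧸ S) < n := by
      have := S.finrank_quotient_add_finrank
      have : 0 < Module.finrank k S := Nat.pos_of_ne_zero fun h => hS0 (Submodule.finrank_eq_zero.1 h)
      omega
    obtain ⟨a, ha⟩ := ih _ hlt' (V ⧸ S) cQ rfl (by omega)
    obtain ⟨b, hb⟩ := ih _ hlt S cS rfl (by omega)
    have hQ : ∀ (m : ℕ) (v : V), ((cQ u - 1) ^ m) (Submodule.Quotient.mk v) =
        Submodule.Quotient.mk (((c u - 1) ^ m) v) := by
      intro m
      induction m with
      | zero => intro v; simp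
      | succ m ihm =>
        intro v
        rw [pow_succ', Module.End.mul_apply, ihm, pow_succ', Module.End.mul_apply]
        rfl
    have hSm : ∀ (m : ℕ) (v : S), ((c u - 1) ^ m) v = (((cS u - 1) ^ m) v : S) := by
      intro m
      induction m with
      | zero => intro v; simp
      | succ m ihm =>
        intro v
        rw [pow_succ', Module.End.mul_apply, ihm, pow_succ', Module.End.mul_apply]
        rfl
    refine ⟨b + a, LinearMap.ext fun v => ?_⟩
    have h1 : ((c u - 1) ^ a) v ∈ S := by
      rw [← Submodule.Quotient.mk_eq_zero, ← hQ, ha]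
      rfl
    rw [pow_add, Module.End.mul_apply, show ((c u - 1) ^ a) v = ((⟨_, h1⟩ : S) : V) from rfl, hSm,
      hb]
    rfl

theorem eq_one_of_unipotent {p : ℕ} [Fact p.Prime] [CharP k p] {V : Type u} [AddCommGroup V]
    [Module k V] [Nontrivial V] (A : H →* Module.End k V) (hA : Function.Injective A) {u : H}
    (hu : IsNilpotent (A u - 1)) : ∃ a, u ^ p ^ a = 1 := by
  obtain ⟨m, hm⟩ := hu
  haveI : CharP (Module.End k V) p :=
    charP_of_injective_algebraMap (algebraMap k (Module.End k V)).injective p
  obtain ⟨a, ha⟩ : ∃ a, m ≤ p ^ a :=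
    ⟨m, (Nat.lt_pow_self (Fact.out : p.Prime).one_lt).le⟩
  refine ⟨a, hA ?_⟩
  rw [map_pow, map_one, ← sub_eq_zero]
  have h := sub_pow_char_pow_of_commute (p := p) (n := a) (Commute.one_right (A u))
  rw [one_pow] at h
  rw [← h, ← Nat.sub_add_cancel ha, pow_add, hm, mul_zero]

variable {p : ℕ} [Fact p.Prime] [CharP k p] [IsAlgClosed k] [Algebra (ZMod p) k] {y : H}

/-- An irreducible representation in which `y` has short Jordan blocks gives `PSL₂(p)`. -/
theorem exists_surj_of_short (hint : ∀ a : k, IsIntegral (ZMod p) a) (hp5 : 5 ≤ p) (hy : orderOf y = p)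
    (h2 : ¬ p ^ 2 ∣ Nat.card H) (hgen : Subgroup.normalClosure {y} = ⊤) {V : Type u}
    [AddCommGroup V] [Module k V] [FiniteDimensional k V] [Nontrivial V]
    (c : H →* Module.End k V)
    (hirr : ∀ S : Submodule k V, (∀ g, ∀ v ∈ S, c g v ∈ S) → S = ⊥ ∨ S = ⊤)
    (hd : Module.finrank k V + 1 < p) {r : ℕ} (hr : 2 * r ≤ p) (hnil : (c y - 1) ^ r = 0)
    (hcy : c y ≠ 1) :
    ∃ π : H →* Matrix.ProjectiveSpecialLinearGroup (Fin 2) (ZMod p),
      Function.Surjective π ∧ ∀ g, π g = 1 ↔ ∃ a : k, c g = a • 1 := by
  obtain ⟨φ, hφ⟩ := Adjoint.exists_hom_of_short c hirr hy h2 hcy hd hr hnil hgen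
  haveI : CharP (Module.End k V) p :=
    charP_of_injective_algebraMap (algebraMap k (Module.End k V)).injective p
  have hscal : ¬ ∃ a : k, c y = a • 1 := by
    rintro ⟨a, ha⟩
    have h1 : c y ^ p = 1 := by rw [← map_pow, ← hy, pow_orderOf_eq_one, map_one]
    rw [ha, smul_pow, one_pow] at h1
    have h2' : a ^ p = 1 := smul_left_injective k (one_ne_zero (α := Module.End k V))
      (show a ^ p • (1 : Module.End k V) = (1 : k) • 1 by rw [h1, one_smul])
    have ha1 : a = 1 := sub_eq_zero.1 ((pow_eq_zero_iff (Fact.out : p.Prime).ne_zero).1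
      (by rw [sub_pow_char, h2', one_pow, sub_self]))
    exact hcy (by rw [ha, ha1, one_smul])
  have hφy : φ y ≠ 1 := fun h => hscal ((hφ y).1 h)
  obtain ⟨π, hπ, hker⟩ := Image.exists_surj hint hp5 hy h2 hgen φ hφy (by
    intro hcomm
    apply hscal
    refine Adjoint.exists_scalar c hirr (c y) fun g => ?_
    let T : Subgroup H :=
      { carrier := {g | Commute (c g) (c y)}
        one_mem' := by show Commute (c 1) (c y); rw [map_one]; exact Commute.one_left _
        mul_mem' := fun {a b} ha hb => by
          show Commute (c (a * b)) (c y)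
          rw [map_mul]; exact Commute.mul_left ha hb
        inv_mem' := fun {a} ha => by
          show c a⁻¹ * c y = c y * c a⁻¹
          have hi : c a⁻¹ * c a = 1 := by rw [← map_mul, inv_mul_cancel, map_one]
          have hi' : c a * c a⁻¹ = 1 := by rw [← map_mul, mul_inv_cancel, map_one]
          calc c a⁻¹ * c y = c a⁻¹ * (c y * c a) * c a⁻¹ := by
                simp only [mul_assoc, hi', mul_one]
            _ = c y * c a⁻¹ := by rw [← (show Commute (c a) (c y) from ha).eq, ← mul_assoc (c a⁻¹), hi, one_mul] }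
    have hle : Subgroup.normalClosure {y} ≤ T := by
      refine (Subgroup.closure_le _).mpr fun w hw => ?_
      obtain ⟨z, hz, hconj⟩ := Group.mem_conjugatesOfSet_iff.1 hw
      rw [Set.mem_singleton_iff] at hz
      rw [hz] at hconj
      obtain ⟨b, rfl⟩ := isConj_iff.1 hconj
      obtain ⟨a, ha⟩ := (hφ (b * y * b⁻¹ * y⁻¹)).1 (by
        rw [map_mul, map_mul, map_mul, (hcomm b y).eq, map_inv, map_inv]; group)
      show Commute (c (b * y * b⁻¹)) (c y)
      rw [show b * y * b⁻¹ = b * y * b⁻¹ * y⁻¹ * y by group, map_mul, ha, smul_mul_assoc, one_mul]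
      exact (Commute.refl _).smul_left a
    exact (hle (by rw [hgen]; trivial) : Commute (c g) (c y)).symm)
  refine ⟨π, hπ, fun g => ?_⟩
  rw [← hφ, ← MonoidHom.mem_ker, hker, MonoidHom.mem_ker]

/-- Each small irreducible representation gives `PSL₂(p)` modulo scalars. -/
theorem exists_surj (hint : ∀ a : k, IsIntegral (ZMod p) a) (hp5 : 5 ≤ p) (hy : orderOf y = p)
    (h2 : ¬ p ^ 2 ∣ Nat.card H) (hgen : Subgroup.normalClosure {y} = ⊤) {V : Type u}
    [AddCommGroup V] [Module k V] [FiniteDimensional k V] [Nontrivial V]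
    (c : H →* Module.End k V)
    (hirr : ∀ S : Submodule k V, (∀ g, ∀ v ∈ S, c g v ∈ S) → S = ⊥ ∨ S = ⊤)
    (hd : 2 * Module.finrank k V + 1 ≤ p) (hcy : c y ≠ 1) :
    ∃ π : H →* Matrix.ProjectiveSpecialLinearGroup (Fin 2) (ZMod p),
      Function.Surjective π ∧ ∀ g, π g = 1 ↔ ∃ a : k, c g = a • 1 := by
  haveI : CharP (Module.End k V) p :=
    charP_of_injective_algebraMap (algebraMap k (Module.End k V)).injective p
  have := Module.finrank_pos (R := k) (M := V)
  refine exists_surj_of_short hint hp5 hy h2 hgen c hirr (by omega) (r := Module.finrank k V)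
    (by omega) (Lift.pow_finrank_eq_zero ⟨p, ?_⟩) hcy
  rw [sub_pow_char_of_commute (p := p) (Commute.one_right _), ← map_pow, ← hy, pow_orderOf_eq_one,
    map_one, one_pow, sub_self]

/-- The quotient by the centre. -/
theorem exists_central_quotient (hint : ∀ a : k, IsIntegral (ZMod p) a) (hp5 : 5 ≤ p)
    (hy : orderOf y = p) (h2 : ¬ p ^ 2 ∣ Nat.card H) (hgen : Subgroup.normalClosure {y} = ⊤)
    (hnp : ¬ IsPGroup p H) {V : Type u} [AddCommGroup V] [Module k V] [FiniteDimensional k V]
    [Nontrivial V] (A : H →* Module.End k V) (hA : Function.Injective A)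
    (hd : 2 * Module.finrank k V + 1 ≤ p) :
    ∃ π : H →* Matrix.ProjectiveSpecialLinearGroup (Fin 2) (ZMod p),
      Function.Surjective π ∧ π.ker = Subgroup.center H := by
  classical
  set n := Module.finrank k V
  have htriv : ∀ {W : Type u} [AddCommGroup W] [Module k W] (c : H →* Module.End k W),
      c y = 1 → ∀ g, c g = 1 := by
    intro W _ _ c hc g
    have hle : Subgroup.normalClosure {y} ≤ c.ker :=
      Subgroup.normalClosure_le_normal (by simpa using hc)
    exact hle (by rw [hgen]; trivial)
  obtain ⟨π, hπ⟩ : ∃ π : H →* Matrix.ProjectiveSpecialLinearGroup (Fin 2) (ZMod p),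
      Function.Surjective π := by
    by_contra hno
    push Not at hno
    refine hnp fun g => ?_
    refine eq_one_of_unipotent A hA (nilpotent_of_irreducible g n ?_ n V A rfl le_rfl)
    intro W _ _ _ c hW hirr hdim
    by_contra hne
    obtain ⟨π, hπ, -⟩ := exists_surj hint hp5 hy h2 hgen c hirr (by omega)
      fun h => hne (htriv c h g)
    exact hno π hπ
  refine ⟨π, hπ, ?_⟩
  haveI hsimple : IsSimpleGroup (Matrix.ProjectiveSpecialLinearGroup (Fin 2) (ZMod p)) :=
    Linear.isSimpleGroup_PSL le_rfl fun _ => by rw [Nat.card_zmod]; omega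
  have hpP : p ∣ Nat.card (Matrix.ProjectiveSpecialLinearGroup (Fin 2) (ZMod p)) := by
    have h := DicksonFull.card_psl_odd (F := ZMod p)
      (by rw [ZMod.card]; exact (Fact.out : p.Prime).odd_of_ne_two (by omega))
    rw [ZMod.card] at h
    have h1 : p ∣ 2 * Nat.card (Matrix.ProjectiveSpecialLinearGroup (Fin 2) (ZMod p)) :=
      (Nat.dvd_add_left dvd_rfl).1 (by rw [h]; exact dvd_pow_self p (by norm_num))
    rcases (Fact.out : p.Prime).dvd_mul.1 h1 with h' | h'
    · have := Nat.le_of_dvd two_pos h'; omega
    · exact h'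
  have hcop : ¬ p ∣ Nat.card π.ker := fun h => h2 (by
    rw [π.ker.card_eq_card_quotient_mul_card_subgroup, pow_two,
      Nat.card_congr (QuotientGroup.quotientKerEquivOfSurjective π hπ).toEquiv]
    exact mul_dvd_mul hpP h)
  refine le_antisymm (fun z hz => ?_) fun z hz => ?_
  · rw [Subgroup.mem_center_iff]
    intro g
    set u := g * z * (z * g)⁻¹
    have hu : u ∈ π.ker := by
      rw [MonoidHom.mem_ker] at hz ⊢
      simp [u, hz]
    have hnil : IsNilpotent (A u - 1) := by
      refine nilpotent_of_irreducible u n ?_ n V A rfl le_rfl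
      intro W _ _ _ c hW hirr hdim
      by_cases hcy : c y = 1
      · exact htriv c hcy u
      obtain ⟨π', hπ', hker'⟩ := exists_surj hint hp5 hy h2 hgen c hirr (by omega) hcy
      have hK : (π.ker.map π') = ⊥ := by
        haveI : (π.ker.map π').Normal := Subgroup.Normal.map inferInstance π' hπ'
        rcases (inferInstance : (π.ker.map π').Normal).eq_bot_or_eq_top with h | h
        · exact h
        · refine absurd (hpP.trans ?_) hcop
          rw [← Subgroup.card_top, ← h]
          exact Subgroup.card_map_dvd _ _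
      obtain ⟨a, ha⟩ := (hker' z).1 (by
        have := Subgroup.mem_map_of_mem π' hz
        rwa [hK, Subgroup.mem_bot] at this)
      have hcomm : c (g * z) = c (z * g) := by
        rw [map_mul, map_mul, ha, mul_smul_comm, smul_mul_assoc, mul_one, one_mul]
      rw [map_mul, hcomm, ← map_mul, mul_inv_cancel, map_one]
    obtain ⟨m, hm⟩ := eq_one_of_unipotent A hA hnil
    have hu1 : u = 1 := by
      rw [← orderOf_eq_one_iff]
      obtain ⟨i, -, hi⟩ := (Nat.dvd_prime_pow Fact.out).1 (orderOf_dvd_of_pow_eq_one hm)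
      rcases Nat.eq_zero_or_pos i with h0 | h0
      · rw [hi, h0, pow_zero]
      · exact absurd ((hi ▸ dvd_pow_self p (by omega) : p ∣ orderOf u).trans
          (Subgroup.orderOf_dvd_natCard π.ker hu)) hcop
    exact mul_inv_eq_one.1 hu1
  · rw [MonoidHom.mem_ker]
    have hzc : π z ∈ Subgroup.center (Matrix.ProjectiveSpecialLinearGroup (Fin 2) (ZMod p)) := by
      rw [Subgroup.mem_center_iff]
      intro w
      obtain ⟨g, rfl⟩ := hπ w
      rw [← map_mul, ← map_mul, Subgroup.mem_center_iff.1 hz g]
    rcases (inferInstance : (Subgroup.center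
      (Matrix.ProjectiveSpecialLinearGroup (Fin 2) (ZMod p))).Normal).eq_bot_or_eq_top with h | h
    · rwa [h, Subgroup.mem_bot] at hzc
    · obtain ⟨a, b, hab⟩ := Linear.exists_not_commute_PSL (F := ZMod p) (ι := Fin 2)
        (Linear.commutator_SL_eq_top le_rfl fun _ => by rw [Nat.card_zmod]; omega)
      exact absurd (Subgroup.mem_center_iff.1 (h ▸ Subgroup.mem_top b) a) hab

end Cfsg.Agent.Lib.SmallRep.Faithful
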