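import Cfsg.Agent.Lib.SmallRep.Faithful
import Cfsg.Agent.Lib.DegSubTwo.Reduction

/-!
# The group with a faithful character of degree `(p - 1) / 2`
-/

set_option autoImplicit false
set_option linter.unusedSectionVars false
set_option linter.style.haveILetI false

namespace Cfsg.Agent.Lib.SmallRep.Reduction

open Cfsg.Agent.Lib Cfsg.Agent.Lib.FirstPower Average Periods
open Cfsg.Agent.Lib.DegSubTwo.Reduction (gen_core nn_core exists_conj_eq core')
open Family (pow_eq_one_of_order)

universe u

variable {p : ℕ} [Fact p.Prime] {G : Type u} [Group G] [Finite G] {x : G} {χ : G → ℂ}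

/-- The restriction to the subgroup generated by the elements of order `p` is irreducible. -/
theorem restrict_inner (hp5 : 5 ≤ p) (hx : orderOf x = p) (h2 : ¬ p ^ 2 ∣ Nat.card G)
    (hnn : ∀ K : Subgroup G, K.Normal → Nat.card K ≠ p) (hχ : Cfsg.IsCharacter G χ)
    (hfaith : ∀ g : G, χ g = χ 1 → g = 1) {n : ℕ} (hn : χ 1 = n) (hdeg : 2 * n + 1 = p)
    [Fintype (core' x)] :
    Cfsg.classInner (fun h : core' x => χ h) (fun h : core' x => χ h) = 1 := by
  classical
  set H := core' x with hH
  have hxH : x ∈ H := Subgroup.subset_normalClosure rfl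
  set y : H := ⟨x, hxH⟩ with hy
  have hy' : orderOf y = p := by rw [← hx, ← Subgroup.orderOf_coe]
  have h2H : ¬ p ^ 2 ∣ Nat.card H := fun h => h2 (h.trans (Subgroup.card_subgroup_dvd_card H))
  have hnnH := nn_core hx h2 hnn
  have hgenH : Subgroup.normalClosure ({y} : Set H) = ⊤ := gen_core hx h2
  haveI := Fintype.ofFinite (Cfsg.IrrCharacter H)
  let χH : H → ℂ := fun h => χ h
  have hχH : Cfsg.IsCharacter H χH := Characters.Basic.isCharacter_comp H.subtype hχ
  choose m hm using fun θ : Cfsg.IrrCharacter H =>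
    Characters.Basic.exists_classInner_nat hχH (Characters.Basic.isCharacter_irr θ)
  have hdec : ∀ h, χH h = ∑ θ : Cfsg.IrrCharacter H, (m θ : ℂ) * (θ : H → ℂ) h := by
    intro h
    rw [Characters.Complete.classFunction_eq_sum
      (Characters.Basic.isClassFunction_of_isCharacter hχH), Finset.sum_apply]
    exact Finset.sum_congr rfl fun θ _ => by rw [Pi.smul_apply, smul_eq_mul, hm]
  obtain ⟨θ, hθm, hθx, hθlin⟩ : ∃ θ : Cfsg.IrrCharacter H, m θ ≠ 0 ∧
      (θ : H → ℂ) y ≠ (θ : H → ℂ) 1 ∧ 2 ≤ Cfsg.charDegree (θ : H → ℂ) := by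
    by_contra hcon
    push Not at hcon
    have hcomm : ∀ a b : H, a * b = b * a := by
      intro a b
      have hker : ∀ θ : Cfsg.IrrCharacter H, m θ ≠ 0 →
          (θ : H → ℂ) (a * b * (b * a)⁻¹) = (θ : H → ℂ) 1 := by
        intro θ hθ
        by_cases hyk : (θ : H → ℂ) y = (θ : H → ℂ) 1
        · have hmem := (Characters.Kernel.mem_charKer (Characters.Basic.isCharacter_irr θ) y).mpr hyk
          haveI := Characters.Kernel.charKer_normal (Characters.Basic.isCharacter_irr θ)
          have := hgenH ▸ Subgroup.normalClosure_le_normal (Set.singleton_subset_iff.mpr hmem)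
          exact (Characters.Kernel.mem_charKer _ _).mp (this (Subgroup.mem_top _))
        · have hd : Cfsg.charDegree (θ : H → ℂ) = 1 := by
            have h1 := DegreeBounds.Basic.charDegree_pos θ
            have h2 := hcon θ hθ hyk
            omega
          have h1 : (θ : H → ℂ) 1 = 1 := by
            rw [DegreeBounds.Basic.charDegree_irr, hd, Nat.cast_one]
          let F := Characters.Linear.degOneHom (Characters.Basic.isCharacter_irr θ) h1
          have h3 : F (a * b * (b * a)⁻¹) = 1 := by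
            rw [map_mul, map_inv, map_mul, map_mul, mul_comm (F a), mul_inv_cancel]
          rw [h1, ← Characters.Linear.degOneHom_apply (Characters.Basic.isCharacter_irr θ) h1]
          exact (congrArg Units.val h3).trans Units.val_one
      have heq : χH (a * b * (b * a)⁻¹) = χH 1 := by
        rw [hdec, hdec]
        refine Finset.sum_congr rfl fun θ _ => ?_
        by_cases hθ : m θ = 0
        · simp [hθ]
        · rw [hker θ hθ]
      have h1 : (a * b * (b * a)⁻¹ : H) = 1 := Subtype.ext (hfaith _ heq)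
      exact mul_inv_eq_one.mp h1
    refine hnnH (Subgroup.zpowers y) ⟨fun k hk g => ?_⟩ (by rw [Nat.card_zpowers, hy'])
    rwa [hcomm g k, mul_inv_cancel_right]
  haveI := BlocksChars5.Basic.charKer_normal θ
  set K := BlocksChars5.Basic.charKer θ with hK
  obtain ⟨φ, hφ⟩ := BlocksChars5.Basic.exists_deflate θ K le_rfl
  have hφv : ∀ h : H, (φ : H ⧸ K → ℂ) h = (θ : H → ℂ) h := fun h => by
    rw [← hφ, BlocksChars5.Basic.inflate_apply]
  have hdegφ : Cfsg.charDegree (φ : H ⧸ K → ℂ) = Cfsg.charDegree (θ : H → ℂ) :=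
    BlocksChars5.Basic.charDegree_congr (by rw [← hφv 1]; rfl)
  have hφf : ∀ g : H ⧸ K, (φ : H ⧸ K → ℂ) g = (φ : H ⧸ K → ℂ) 1 → g = 1 := by
    intro g
    obtain ⟨h, rfl⟩ := QuotientGroup.mk_surjective g
    intro he
    rw [hφv, ← QuotientGroup.mk_one, hφv] at he
    exact (QuotientGroup.eq_one_iff h).mpr ((BlocksChars5.Basic.mem_charKer θ h).mpr he)
  have hyne : (QuotientGroup.mk y : H ⧸ K) ≠ 1 := fun h =>
    hθx ((BlocksChars5.Basic.mem_charKer θ y).mp ((QuotientGroup.eq_one_iff y).mp h))
  have hyK : orderOf (QuotientGroup.mk y : H ⧸ K) = p :=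
    orderOf_eq_prime (by rw [← QuotientGroup.mk_pow, ← hy', pow_orderOf_eq_one, QuotientGroup.mk_one])
      hyne
  have hgenK : Subgroup.normalClosure ({(QuotientGroup.mk y : H ⧸ K)} : Set (H ⧸ K)) = ⊤ := by
    rw [eq_top_iff]
    intro g _
    obtain ⟨h, rfl⟩ := QuotientGroup.mk_surjective g
    have : Subgroup.normalClosure ({y} : Set H) ≤
        (Subgroup.normalClosure ({(QuotientGroup.mk y : H ⧸ K)} : Set (H ⧸ K))).comap
          (QuotientGroup.mk' K) :=
      Subgroup.normalClosure_le_normal (Set.singleton_subset_iff.mpr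
        (Subgroup.subset_normalClosure rfl))
    exact this (hgenH ▸ Subgroup.mem_top h)
  have h2K : ¬ p ^ 2 ∣ Nat.card (H ⧸ K) := fun h =>
    h2H (h.trans (Subgroup.card_quotient_dvd_card K))
  have hbig := Cfsg.Agent.S4503.result p Fact.out (hyK ▸ orderOf_dvd_natCard _) h2K (by
      intro L hL hcard
      haveI := hL
      have hLz := Cfsg.Agent.S4503.zpowers_of_dvd h2K hyK hcard
      have htop : L = ⊤ := top_le_iff.mp (hgenK ▸ Subgroup.normalClosure_le_normal
        (Set.singleton_subset_iff.mpr (hLz ▸ Subgroup.mem_zpowers _)))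
      have hcyc : ∀ a b : H ⧸ K, a * b = b * a := by
        intro a b
        have ha : a ∈ Subgroup.zpowers (QuotientGroup.mk y : H ⧸ K) := by rw [hLz, htop]; trivial
        have hb : b ∈ Subgroup.zpowers (QuotientGroup.mk y : H ⧸ K) := by rw [hLz, htop]; trivial
        obtain ⟨i, rfl⟩ := ha
        obtain ⟨j, rfl⟩ := hb
        exact ((Commute.refl _).zpow_zpow i j).eq
      have := BlocksChars5.Basic.degree_eq_one_of_comm φ hcyc
      rw [DegreeBounds.Basic.charDegree_irr] at this
      norm_cast at this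
      omega)
    (φ : H ⧸ K → ℂ) (Characters.Basic.isCharacter_irr φ) hφf
  rw [hdegφ] at hbig
  have hsum : n = ∑ ψ, m ψ * Cfsg.charDegree (ψ : H → ℂ) := by
    have h := hdec 1
    rw [show χH 1 = (n : ℂ) from (congrArg χ H.coe_one).trans hn] at h
    simp only [DegreeBounds.Basic.charDegree_irr] at h
    exact_mod_cast h
  rw [← Finset.add_sum_erase _ _ (Finset.mem_univ θ)] at hsum
  have hθ1 : m θ = 1 := by
    by_contra hne
    have : 2 * Cfsg.charDegree (θ : H → ℂ) ≤ m θ * Cfsg.charDegree (θ : H → ℂ) :=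
      Nat.mul_le_mul_right _ (by omega)
    omega
  have hothers : ∀ ψ, ψ ≠ θ → m ψ = 0 := by
    intro ψ hψ
    rw [hθ1, one_mul] at hsum
    have h0 : ∑ ψ ∈ Finset.univ.erase θ, m ψ * Cfsg.charDegree (ψ : H → ℂ) = 0 := by omega
    have := Finset.sum_eq_zero_iff.1 h0 ψ (Finset.mem_erase.2 ⟨hψ, Finset.mem_univ _⟩)
    exact (mul_eq_zero.1 this).resolve_right (DegreeBounds.Basic.charDegree_pos ψ).ne'
  have hχθ : χH = (θ : H → ℂ) := by
    funext h
    rw [hdec, Finset.sum_eq_single θ (fun ψ _ hψ => by rw [hothers ψ hψ]; simp)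
      (fun h => absurd (Finset.mem_univ _) h), hθ1, Nat.cast_one, one_mul]
  have h := Characters.Basic.classInner_self_irr θ
  rw [← hχθ] at h
  convert h

/-- Not all powers of an element of order `p` are conjugate. -/
theorem exists_not_conj (hx : orderOf x = p) (hχ : Cfsg.IsCharacter G χ)
    (hfaith : ∀ g : G, χ g = χ 1 → g = 1) {n : ℕ} (hn : χ 1 = n) (hdeg : n < p - 1) :
    ¬ ∀ j : ℕ, ¬ p ∣ j → IsConj x (x ^ j) := by
  classical
  intro hall
  have hxp := pow_eq_one_of_order hx
  obtain ⟨l, hl⟩ := exists_mult hxp (V := ⊥)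
    (fun v hv => by rw [Subgroup.mem_bot.mp hv]; exact Commute.one_right x) hχ
  simp only [Consequences.aval_bot] at hl
  have hcl := Characters.Basic.isClassFunction_of_isCharacter hχ
  have hval : ∀ z : ZMod p, z ≠ 0 → χ (x ^ z.val) = χ x := by
    intro z hz
    obtain ⟨g, hg⟩ := isConj_iff.1 (hall z.val fun hd => hz (by
      rw [← ZMod.natCast_eq_zero_iff, ZMod.natCast_val, ZMod.cast_id] at hd
      exact hd))
    rw [← hg]
    exact hcl x g
  -- Fourier inversion
  have hinv : ∀ a : ZMod p, a ≠ 0 → (p : ℂ) * l a = (n : ℂ) - χ x := by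
    intro a ha
    have h1 : ∑ z : ZMod p, χ (x ^ z.val) * chr p (-(a * z)) = (p : ℂ) * l a := by
      simp only [hl, Finset.sum_mul]
      rw [Finset.sum_comm, Finset.sum_eq_single a]
      · have := sum_chr_mul_chr (p := p) a a
        rw [if_pos rfl] at this
        rw [← this, Finset.sum_mul]
        refine Finset.sum_congr rfl fun z _ => ?_
        rw [mul_comm z a]
        ring
      · intro b _ hb
        have := sum_chr_mul_chr (p := p) b a
        rw [if_neg hb] at this
        rw [← mul_zero (l b : ℂ), ← this, Finset.mul_sum]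
        refine Finset.sum_congr rfl fun z _ => ?_
        rw [mul_comm z b, mul_comm z a]
        ring
      · intro h; exact absurd (Finset.mem_univ _) h
    have h2 : ∑ z : ZMod p, chr p (-(a * z)) = 0 := by
      have := sum_chr (p := p) (-a)
      rw [if_neg (neg_ne_zero.2 ha)] at this
      simpa [neg_mul] using this
    rw [← h1, ← Finset.add_sum_erase _ _ (Finset.mem_univ (0 : ZMod p)), ZMod.val_zero, pow_zero,
      hn, mul_zero, neg_zero, chr_zero, mul_one,
      Finset.sum_congr rfl fun z hz => by rw [hval z (Finset.ne_of_mem_erase hz)], ← Finset.mul_sum]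
    rw [← Finset.add_sum_erase _ _ (Finset.mem_univ (0 : ZMod p)), mul_zero, neg_zero, chr_zero]
      at h2
    linear_combination χ x * h2
  have hsum : (∑ j, l j : ℕ) = n := by
    have h0 := hl 0
    rw [ZMod.val_zero, pow_zero, hn] at h0
    simp only [mul_zero, chr_zero, mul_one] at h0
    exact_mod_cast h0.symm
  have hp0 : (p : ℂ) ≠ 0 := Nat.cast_ne_zero.2 (Fact.out : p.Prime).ne_zero
  have hconst : ∀ a : ZMod p, a ≠ 0 → l a = l 1 := fun a ha => by
    have := (hinv a ha).trans (hinv 1 one_ne_zero).symm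
    exact_mod_cast mul_left_cancel₀ hp0 this
  rw [← Finset.add_sum_erase _ _ (Finset.mem_univ (0 : ZMod p)),
    Finset.sum_congr rfl fun a ha => hconst a (Finset.ne_of_mem_erase ha), Finset.sum_const,
    Finset.card_erase_of_mem (Finset.mem_univ _), Finset.card_univ, ZMod.card, smul_eq_mul] at hsum
  have hl1 : l 1 = 0 := by
    by_contra h
    have : (p - 1) * 1 ≤ (p - 1) * l 1 := Nat.mul_le_mul_left _ (by omega)
    omega
  have h := hinv 1 one_ne_zero
  rw [hl1, Nat.cast_zero, mul_zero] at h
  have hx1 := hfaith x (by rw [hn]; linear_combination h)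
  rw [hx1, orderOf_one] at hx
  exact (Fact.out : p.Prime).one_lt.ne hx

theorem main (hp5 : 5 ≤ p) (hx : orderOf x = p) (h2 : ¬ p ^ 2 ∣ Nat.card G)
    (hnn : ∀ K : Subgroup G, K.Normal → Nat.card K ≠ p) (hχ : Cfsg.IsCharacter G χ)
    (hfaith : ∀ g : G, χ g = χ 1 → g = 1) {n : ℕ} (hn : χ 1 = n) (hdeg : 2 * n + 1 = p) :
    Nonempty ((G ⧸ Subgroup.center G) ≃*
      Matrix.ProjectiveSpecialLinearGroup (Fin 2) (ZMod p)) := by
  classical
  set H := core' x with hH
  haveI := Fintype.ofFinite H
  have hxH : x ∈ H := Subgroup.subset_normalClosure rfl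
  set y : H := ⟨x, hxH⟩ with hy
  have hy' : orderOf y = p := by rw [← hx, ← Subgroup.orderOf_coe]
  have h2H : ¬ p ^ 2 ∣ Nat.card H := fun h => h2 (h.trans (Subgroup.card_subgroup_dvd_card H))
  have hxp := pow_eq_one_of_order hx
  -- the representation modulo `p`
  obtain ⟨M, hM⟩ := Blocks.exists_isPModular p (Fact.out : p.Prime)
  haveI : M.IsMaximal := hM.2.1
  letI : Field (Cfsg.AlgInt ⧸ M) := Ideal.Quotient.field M
  haveI : CharP (Cfsg.AlgInt ⧸ M) p := Blocks.charP_residue hM
  haveI : IsAlgClosed (Cfsg.AlgInt ⧸ M) := Blocks.isAlgClosed_residueField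
  letI : Algebra (ZMod p) (Cfsg.AlgInt ⧸ M) := ZMod.algebra _ p
  have hint : ∀ a : Cfsg.AlgInt ⧸ M, IsIntegral (ZMod p) a := by
    intro a
    obtain ⟨a, rfl⟩ := Ideal.Quotient.mk_surjective a
    have ha : IsIntegral ℤ a :=
      (isIntegral_algebraMap_iff (FaithfulSMul.algebraMap_injective Cfsg.AlgInt ℂ)).mp a.2
    exact (ha.map (Ideal.Quotient.mkₐ ℤ M)).tower_top
  obtain ⟨d, A, hd, hker⟩ := SmallReduction.exists_reduction (p := p) hM hχ
  obtain rfl : d = n := by exact_mod_cast hd.symm.trans hn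
  have hinj : Function.Injective A := by
    refine (MonoidHom.ker_eq_bot_iff A).mp ?_
    refine Cfsg.Agent.S4503.eq_bot_of_pgroup h2 hnn (fun g => ?_)
    obtain ⟨k, hk⟩ : ∃ k, orderOf ((g : G) ^ p ^ k) ∣ orderOf (g : G) ∧
        ¬ p ∣ orderOf ((g : G) ^ p ^ k) := by
      refine ⟨(orderOf (g : G)).factorization p, orderOf_pow_dvd _, ?_⟩
      rw [orderOf_pow_of_dvd (pow_ne_zero _ (Fact.out : p.Prime).ne_zero) (Nat.ordProj_dvd _ _)]
      exact Nat.not_dvd_ordCompl Fact.out (orderOf_pos (g : G)).ne'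
    refine ⟨k, Subtype.ext ?_⟩
    rw [SubmonoidClass.coe_pow]
    exact hfaith _ (hker _ hk.2 (by rw [map_pow, MonoidHom.mem_ker.mp g.2, one_pow]))
  haveI : Nonempty (Fin d) := ⟨⟨0, by omega⟩⟩
  have hnp : ¬ IsPGroup p H := fun h => by
    have := Cfsg.Agent.S4503.eq_bot_of_pgroup h2 hnn h
    rw [this, Subgroup.mem_bot] at hxH
    rw [hxH, orderOf_one] at hx
    omega
  obtain ⟨π, hπ, hπker⟩ := Faithful.exists_central_quotient hint hp5 hy' h2H (gen_core hx h2) hnp
    (A.comp H.subtype) (hinj.comp H.subtype_injective) (by rw [Module.finrank_fin_fun]; omega)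
  -- the centralizer of `H` is central
  have hcz : ∀ c : G, (∀ h : H, c * h = h * c) → c ∈ Subgroup.center G := by
    intro c hc
    obtain ⟨d', ρ, hρχ⟩ := hχ
    let ρH : Representation ℂ H (Fin d' → ℂ) := ρ.comp H.subtype
    have hρHc : ρH.character = fun h : H => χ h := by
      funext h
      rw [← hρχ]
      rfl
    haveI : ρH.IsIrreducible := (Characters.Basic.isIrreducible_iff_classInner_self ρH).2 (by
      rw [hρHc]
      exact restrict_inner hp5 hx h2 hnn ⟨d', ρ, hρχ⟩ hfaith hn hdeg)
    obtain ⟨r, hr⟩ := Clifford.Rep.schur ρH (ρ c) (fun h => by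
      show ρ c * ρ h = ρ h * ρ c
      rw [← map_mul, ← map_mul, hc h])
    rw [Subgroup.mem_center_iff]
    intro g
    have h1 : ρ (g * c) = ρ (c * g) := by
      rw [map_mul, map_mul, hr]
      exact LinearMap.ext fun v => by simp
    have h3 : ρ (g * c * (c * g)⁻¹) = ρ 1 := by
      rw [map_mul, h1, ← map_mul, mul_inv_cancel]
    have h4 := hfaith (g * c * (c * g)⁻¹) (by
      rw [← hρχ, Representation.character, Representation.character, h3])
    exact mul_inv_eq_one.1 h4
  have hK : ∀ z ∈ π.ker, ∀ h : H, (z : G) * h = h * z := by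
    intro z hz h
    rw [hπker] at hz
    exact (congrArg Subtype.val (Subgroup.mem_center_iff.1 hz h)).symm
  have hcop : ∀ z ∈ π.ker, z ^ p = 1 → z = 1 := by
    intro z hz hzp
    rcases (Nat.dvd_prime Fact.out).1 (orderOf_dvd_of_pow_eq_one hzp) with h | h
    · exact orderOf_eq_one_iff.1 h
    · exfalso
      -- a central subgroup of order `p`
      have hzc : (z : G) ∈ Subgroup.center G := hcz _ (hK z hz)
      have hc : Nat.card (Subgroup.zpowers (z : G)) = p := by
        rw [Nat.card_zpowers, Subgroup.orderOf_coe, h]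
      refine hnn _ ⟨fun a ha b => ?_⟩ hc
      obtain ⟨i, rfl⟩ := ha
      rw [Subgroup.mem_center_iff.1 (Subgroup.zpow_mem _ hzc i) b, mul_inv_cancel_right]
      exact ⟨i, rfl⟩
  have hπy : π y ≠ 1 := fun h => by
    have := hcop y h (by rw [← hy', pow_orderOf_eq_one])
    rw [this, orderOf_one] at hy'
    omega
  have hyp : y ^ p = 1 := orderOf_dvd_iff_pow_eq_one.1 (dvd_of_eq hy')
  have hπyp : π y ^ p = 1 := by rw [← map_pow, hyp, map_one]
  -- squares are realised inside `H`
  have hsq : ∀ t : ℕ, ¬ p ∣ t → ∃ h : H, h * y * h⁻¹ = y ^ (t * t) := by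
    intro t ht
    obtain ⟨a, s, hs, ha⟩ := Image.exists_conj_up (by omega) hπyp hπy
    set t' : ZMod p := (t : ZMod p) with ht'
    have ht0 : t' ≠ 0 := by rwa [ht', Ne, ZMod.natCast_eq_zero_iff]
    set D : Matrix.SpecialLinearGroup (Fin 2) (ZMod p) :=
      ⟨!![t', 0; 0, t'⁻¹], by rw [Matrix.det_fin_two_of]; field_simp; ring⟩ with hD
    obtain ⟨h, hh⟩ := hπ (a * (D : Matrix.ProjectiveSpecialLinearGroup (Fin 2) (ZMod p)) * a⁻¹)
    refine ⟨h, ?_⟩
    have hconj : (D * PLocal.SLTwo.up s * D⁻¹ :
        Matrix.SpecialLinearGroup (Fin 2) (ZMod p)) = PLocal.SLTwo.up s ^ (t * t) := by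
      rw [mul_inv_eq_iff_eq_mul, ← Dickson.up_nsmul]
      apply Subtype.ext
      rw [Matrix.SpecialLinearGroup.coe_mul, Matrix.SpecialLinearGroup.coe_mul, Dickson.coe_up,
        Dickson.coe_up, hD]
      show !![t', 0; 0, t'⁻¹] * _ = _ * !![t', 0; 0, t'⁻¹]
      rw [Nat.cast_mul, ← ht']
      simp [Matrix.mul_fin_two]
      field_simp
    have hker' : (h * y * h⁻¹ * (y ^ (t * t))⁻¹) ∈ π.ker := by
      rw [MonoidHom.mem_ker, map_mul, map_mul, map_mul, map_inv, map_inv, map_pow, hh, ha,
        conj_pow, ← QuotientGroup.mk_pow, ← hconj, QuotientGroup.mk_mul, QuotientGroup.mk_mul,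
        QuotientGroup.mk_inv]
      group
    have hcomm : Commute (h * y * h⁻¹ * (y ^ (t * t))⁻¹) (y ^ (t * t)) := by
      rw [hπker, Subgroup.mem_center_iff] at hker'
      exact (hker' _).symm
    set z := h * y * h⁻¹ * (y ^ (t * t))⁻¹ with hz
    have he : z * y ^ (t * t) = h * y * h⁻¹ := by rw [hz]; group
    have hyp' : y ^ p = 1 := by rw [← hy', pow_orderOf_eq_one]
    have hz1 := hcop z hker' (by
      have := congrArg (fun w : H => w ^ p) he
      change (z * y ^ (t * t)) ^ p = (h * y * h⁻¹) ^ p at this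
      rw [hcomm.mul_pow, conj_pow, hyp', mul_one, mul_inv_cancel, ← pow_mul, mul_comm (t * t),
        pow_mul, hyp', one_pow, mul_one] at this
      exact this)
    rw [← he, hz1, one_mul]
  -- `G = H Z(G)`
  have hsplit : ∀ g : G, ∃ h : H, ∃ z ∈ Subgroup.center G, g = h * z := by
    intro g
    obtain ⟨-, h, hh, hk⟩ := exists_conj_eq hx h2 H hxH (g * x * g⁻¹)
      (by rw [← MulAut.conj_apply, MulEquiv.orderOf_eq, hx])
    obtain ⟨j, hj⟩ := mem_powers_iff_mem_zpowers.2 hk
    set m := h * g with hm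
    have hmx : m * x * m⁻¹ = x ^ j := by
      change x ^ j = _ at hj
      rw [hj, hm]; group
    have hj0 : (j : ZMod p) ≠ 0 := by
      intro h0
      obtain ⟨c, rfl⟩ := (ZMod.natCast_eq_zero_iff j p).1 h0
      rw [pow_mul, hxp, one_pow, conj_eq_one_iff] at hmx
      rw [hmx, orderOf_one] at hx
      omega
    have hpowmod : ∀ a b : ℕ, (a : ZMod p) = b → x ^ a = x ^ b := fun a b hab => by
      rw [ZMod.natCast_eq_natCast_iff] at hab
      rw [pow_eq_pow_iff_modEq, hx]
      exact hab
    by_cases hsqj : IsSquare (j : ZMod p)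
    swap
    · exfalso
      refine exists_not_conj hx hχ hfaith hn (by omega) fun i hi => ?_
      have hi0 : (i : ZMod p) ≠ 0 := by rwa [Ne, ZMod.natCast_eq_zero_iff]
      by_cases hsqi : IsSquare (i : ZMod p)
      · obtain ⟨r, hr⟩ := hsqi
        obtain ⟨w, hw⟩ := hsq r.val (fun hd => hi0 (by
          rw [← ZMod.natCast_eq_zero_iff, ZMod.natCast_val, ZMod.cast_id] at hd
          rw [hr, hd, mul_zero]))
        refine isConj_iff.2 ⟨w, ?_⟩
        have := congrArg Subtype.val hw
        simp only [Subgroup.coe_mul, Subgroup.coe_inv, SubmonoidClass.coe_pow, hy] at this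
        rw [this]
        exact hpowmod _ _ (by rw [Nat.cast_mul, ZMod.natCast_val, ZMod.cast_id, hr])
      · have hring : ringChar (ZMod p) ≠ 2 := by rw [ZMod.ringChar_zmod_n]; omega
        obtain ⟨r, hr⟩ : IsSquare ((i : ZMod p) / j) := by
          have e1 := quadraticChar_neg_one_iff_not_isSquare.2 hsqi
          have e2 := quadraticChar_neg_one_iff_not_isSquare.2 hsqj
          rw [← quadraticChar_one_iff_isSquare (div_ne_zero hi0 hj0)]
          have e3 := map_mul (quadraticChar (ZMod p)) ((i : ZMod p) / j) j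
          rw [div_mul_cancel₀ _ hj0, e1, e2] at e3
          linarith
        obtain ⟨w, hw⟩ := hsq r.val (fun hd => by
          rw [← ZMod.natCast_eq_zero_iff, ZMod.natCast_val, ZMod.cast_id] at hd
          exact div_ne_zero hi0 hj0 (by rw [hr, hd, mul_zero]))
        have := congrArg Subtype.val hw
        simp only [Subgroup.coe_mul, Subgroup.coe_inv, SubmonoidClass.coe_pow, hy] at this
        refine isConj_iff.2 ⟨(w : G) * m, ?_⟩
        rw [show (w : G) * m * x * ((w : G) * m)⁻¹ = (w : G) * (m * x * m⁻¹) * (w : G)⁻¹ by group,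
          hmx, ← conj_pow, this, ← pow_mul]
        refine hpowmod _ _ ?_
        rw [Nat.cast_mul, Nat.cast_mul, ZMod.natCast_val, ZMod.cast_id, ← hr]
        field_simp
    obtain ⟨r, hr⟩ := hsqj
    obtain ⟨w, hw⟩ := hsq r.val (fun hd => hj0 (by
      rw [← ZMod.natCast_eq_zero_iff, ZMod.natCast_val, ZMod.cast_id] at hd
      rw [hr, hd, mul_zero]))
    have hwx : (w : G) * x * (w : G)⁻¹ = x ^ j := by
      have := congrArg Subtype.val hw
      simp only [Subgroup.coe_mul, Subgroup.coe_inv, SubmonoidClass.coe_pow, hy] at this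
      rw [this]
      exact hpowmod _ _ (by rw [Nat.cast_mul, ZMod.natCast_val, ZMod.cast_id, hr])
    set c := (w : G)⁻¹ * m with hc
    have hcx : c * x * c⁻¹ = x := by
      rw [hc, show (w : G)⁻¹ * m * x * ((w : G)⁻¹ * m)⁻¹ = (w : G)⁻¹ * (m * x * m⁻¹) * w by group,
        hmx, ← hwx]
      group
    let α : H ≃* H := MulAut.conjNormal c
    have hαy : α y = y := Subtype.ext (by rw [MulAut.conjNormal_apply]; exact hcx)
    have hαker : π.ker.map α.toMonoidHom = π.ker := by
      rw [hπker]
      ext z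
      constructor
      · rintro ⟨w, hw, rfl⟩
        rw [Subgroup.mem_center_iff]
        intro g
        obtain ⟨g', rfl⟩ := α.surjective g
        show α g' * α w = α w * α g'
        rw [← map_mul, ← map_mul, Subgroup.mem_center_iff.1 hw g']
      · intro hz
        refine ⟨α.symm z, ?_, α.apply_symm_apply z⟩
        rw [SetLike.mem_coe, Subgroup.mem_center_iff]
        intro g
        apply α.injective
        rw [map_mul, map_mul, α.apply_symm_apply, Subgroup.mem_center_iff.1 hz]
    let e := QuotientGroup.quotientKerEquivOfSurjective π hπ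
    let γ := (e.symm.trans (QuotientGroup.congr π.ker π.ker α hαker)).trans e
    have hγ : ∀ h : H, γ (π h) = π (α h) := by
      intro h
      have h1 : e.symm (π h) = (h : H ⧸ π.ker) := e.symm_apply_eq.2 rfl
      show e (QuotientGroup.congr π.ker π.ker α hαker (e.symm (π h))) = _
      rw [h1]
      rfl
    obtain ⟨i, hi⟩ := Image.eq_conj_of_fix (by omega) γ hπyp hπy (by rw [hγ, hαy])
    set c' := (x ^ i)⁻¹ * c with hc'
    have hc'Z : c' ∈ Subgroup.center G := by
      refine hcz _ ?_
      let T : Subgroup H :=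
        { carrier := {h | c' * (h : G) = (h : G) * c'}
          one_mem' := by simp
          mul_mem' := fun {a b} ha hb => by
            show c' * ((a : G) * b) = (a : G) * b * c'
            rw [← mul_assoc, show c' * (a : G) = a * c' from ha, mul_assoc,
              show c' * (b : G) = b * c' from hb, mul_assoc]
          inv_mem' := fun {a} ha => (Commute.inv_right (show Commute c' (a : G) from ha)).eq }
      intro h
      have hle : Subgroup.normalClosure ({y} : Set H) ≤ T := by
        refine (Subgroup.closure_le _).mpr fun u hu => ?_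
        obtain ⟨z, hz, hconj⟩ := Group.mem_conjugatesOfSet_iff.1 hu
        rw [Set.mem_singleton_iff] at hz
        rw [hz] at hconj
        obtain ⟨b, rfl⟩ := isConj_iff.1 hconj
        set u := b * y * b⁻¹ with hu'
        have hup : u ^ p = 1 := by
          rw [hu', conj_pow, ← hy', pow_orderOf_eq_one, mul_one, mul_inv_cancel]
        set v : H := (y ^ i)⁻¹ * α u * y ^ i with hv
        have hvu : v * u⁻¹ ∈ π.ker := by
          rw [MonoidHom.mem_ker, hv, map_mul, map_mul, map_mul, map_inv, map_inv, map_pow,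
            ← hγ, hi]
          group
        have hvp : v ^ p = 1 := by
          rw [hv, show (y ^ i)⁻¹ * α u * y ^ i = (y ^ i)⁻¹ * α u * ((y ^ i)⁻¹)⁻¹ by rw [inv_inv],
            conj_pow, ← map_pow, hup, map_one, mul_one, mul_inv_cancel]
        have hcomm : Commute (v * u⁻¹) u := by
          rw [hπker, Subgroup.mem_center_iff] at hvu
          exact (hvu u).symm
        have hone : v * u⁻¹ = 1 := hcop _ hvu (by
          have h3 : (v * u⁻¹ * u) ^ p = v ^ p := by rw [inv_mul_cancel_right]
          rw [hcomm.mul_pow, hup, hvp, mul_one] at h3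
          exact h3)
        have h4 : (v : G) = u := congrArg Subtype.val (mul_inv_eq_one.1 hone)
        show c' * (u : G) = (u : G) * c'
        conv_rhs => rw [← h4]
        simp only [hv, hc', Subgroup.coe_mul, Subgroup.coe_inv, SubmonoidClass.coe_pow, hy]
        rw [MulAut.conjNormal_apply]
        group
      have hgen : Subgroup.normalClosure ({y} : Set H) = ⊤ := gen_core hx h2
      exact hle (by rw [hgen]; trivial)
    refine ⟨⟨h⁻¹, inv_mem hh⟩ * w * y ^ i, c', hc'Z, ?_⟩
    simp only [Subgroup.coe_mul, SubmonoidClass.coe_pow, hy, hc', hc, hm]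
    group
  -- conclusion
  let f : H →* G ⧸ Subgroup.center G := (QuotientGroup.mk' _).comp H.subtype
  have hf : Function.Surjective f := by
    intro q
    obtain ⟨g, rfl⟩ := QuotientGroup.mk_surjective q
    obtain ⟨h, z, hz, rfl⟩ := hsplit g
    refine ⟨h, ?_⟩
    show ((h : G) : G ⧸ Subgroup.center G) = _
    rw [QuotientGroup.mk_mul, (QuotientGroup.eq_one_iff z).2 hz, mul_one]
  have hfker : f.ker = π.ker := by
    ext h
    show ((h : G) : G ⧸ Subgroup.center G) = 1 ↔ _
    rw [QuotientGroup.eq_one_iff]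
    constructor
    · intro hh
      rw [hπker, Subgroup.mem_center_iff]
      exact fun g => Subtype.ext (Subgroup.mem_center_iff.1 hh g)
    · intro hh
      exact hcz _ (hK h hh)
  exact ⟨((QuotientGroup.quotientKerEquivOfSurjective f hf).symm.trans
    (QuotientGroup.quotientMulEquivOfEq hfker)).trans
    (QuotientGroup.quotientKerEquivOfSurjective π hπ)⟩

end Cfsg.Agent.Lib.SmallRep.Reduction
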