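import Mathlib.LinearAlgebra.Matrix.SpecialLinearGroup
import Mathlib.FieldTheory.IsAlgClosed.Basic
import Mathlib.Tactic.LinearCombination
import Mathlib.Tactic.Ring
import Mathlib.Tactic.FieldSimp
import Mathlib.Tactic.FinCases

/-!
# The adjoint representation of `SL₂` is the special orthogonal group in dimension three
-/

set_option autoImplicit false
set_option linter.unusedSectionVars false

namespace Cfsg.Agent.Lib.SmallRep.Ad

open Matrix

variable {k : Type*} [Field k]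

/-- The invariant form on coordinates with respect to `H, E, F`. -/
def form (v w : Fin 3 → k) : k := 2 * v 0 * w 0 + v 1 * w 2 + v 2 * w 1

/-- The adjoint action. -/
def adM (A : Matrix (Fin 2) (Fin 2) k) : Matrix (Fin 3) (Fin 3) k :=
  !![A 0 0 * A 1 1 + A 0 1 * A 1 0, -(A 0 0 * A 1 0), A 0 1 * A 1 1;
     -(2 * A 0 0 * A 0 1), A 0 0 ^ 2, -A 0 1 ^ 2;
     2 * A 1 0 * A 1 1, -A 1 0 ^ 2, A 1 1 ^ 2]

theorem adM_mul (A B : Matrix (Fin 2) (Fin 2) k) : adM (A * B) = adM A * adM B := by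
  ext i j
  fin_cases i <;> fin_cases j <;>
    simp [adM, Matrix.mul_apply, Fin.sum_univ_three, Fin.sum_univ_two] <;> ring

theorem adM_one : adM (1 : Matrix (Fin 2) (Fin 2) k) = 1 := by
  ext i j
  fin_cases i <;> fin_cases j <;> simp [adM]

theorem det_adM (A : Matrix (Fin 2) (Fin 2) k) : (adM A).det = A.det ^ 3 := by
  rw [Matrix.det_fin_three, Matrix.det_fin_two]
  simp [adM]
  ring

theorem form_adM (A : Matrix (Fin 2) (Fin 2) k) (v w : Fin 3 → k) :
    form (adM A *ᵥ v) (adM A *ᵥ w) = A.det ^ 2 * form v w := by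
  rw [Matrix.det_fin_two]
  simp [form, adM, Matrix.mulVec, dotProduct, Fin.sum_univ_three]
  ring

/-- A linear map of determinant one preserving the form is adjoint. -/
theorem exists_adM [IsAlgClosed k] (h2 : (2 : k) ≠ 0) (g : Matrix (Fin 3) (Fin 3) k)
    (hdet : g.det = 1) (hg : ∀ v w, form (g *ᵥ v) (g *ᵥ w) = form v w) :
    ∃ A : Matrix.SpecialLinearGroup (Fin 2) k, adM (A : Matrix (Fin 2) (Fin 2) k) = g := by
  set a := g *ᵥ ![0, 1, 0] with ha
  have haa : a 0 ^ 2 + a 1 * a 2 = 0 := by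
    have h := hg ![0, 1, 0] ![0, 1, 0]
    rw [← ha] at h
    simp only [form, Matrix.cons_val_zero, Matrix.cons_val_one, Matrix.cons_val] at h
    have : 2 * (a 0 ^ 2 + a 1 * a 2) = 0 := by linear_combination h
    exact (mul_eq_zero.1 this).resolve_left h2
  obtain ⟨r, hr⟩ := IsAlgClosed.exists_pow_nat_eq (a 1) (n := 2) two_pos
  obtain ⟨q₀, hq₀⟩ := IsAlgClosed.exists_pow_nat_eq (-a 2) (n := 2) two_pos
  obtain ⟨q, hq, hrq⟩ : ∃ q, q ^ 2 = -a 2 ∧ -(r * q) = a 0 := by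
    have : (r * q₀) ^ 2 = a 0 ^ 2 := by rw [mul_pow, hr, hq₀]; linear_combination -haa
    rcases sq_eq_sq_iff_eq_or_eq_neg.1 this with h | h
    · exact ⟨-q₀, by rw [neg_sq, hq₀], by rw [mul_neg, neg_neg, h]⟩
    · exact ⟨q₀, hq₀, by rw [h, neg_neg]⟩
  have hrq0 : r ≠ 0 ∨ q ≠ 0 := by
    by_contra h
    rw [not_or, not_not, not_not] at h
    have ha0 : a = 0 := by
      funext i
      fin_cases i
      · simp [← hrq, h.1]
      · simp [← hr, h.1]
      · simpa [h.2] using hq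
    have h' := hg ![0, 1, 0] ![0, 0, 1]
    rw [← ha, ha0] at h'
    simp [form] at h'
  obtain ⟨A, hA0, hA1⟩ : ∃ A : Matrix.SpecialLinearGroup (Fin 2) k, A.1 0 0 = r ∧ A.1 1 0 = q := by
    by_cases h : r = 0
    · refine ⟨⟨!![r, -q⁻¹; q, 0], ?_⟩, rfl, rfl⟩
      have hq0 : q ≠ 0 := hrq0.resolve_left (not_not_intro h)
      rw [Matrix.det_fin_two_of]
      field_simp
      ring
    · refine ⟨⟨!![r, 0; q, r⁻¹], ?_⟩, rfl, rfl⟩
      rw [Matrix.det_fin_two_of]
      field_simp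
      ring
  have hAa : adM A.1 *ᵥ ![0, 1, 0] = a := by
    funext i
    fin_cases i <;> simp [adM, Matrix.mulVec, dotProduct, Fin.sum_univ_three, hA0, hA1]
    · exact hrq
    · exact hr
    · rw [hq, neg_neg]
  obtain ⟨g₁, hg₁⟩ : ∃ g₁, g₁ = adM (A⁻¹).1 * g := ⟨_, rfl⟩
  have hinv : adM (A⁻¹).1 * adM A.1 = 1 := by
    rw [← adM_mul, ← Matrix.SpecialLinearGroup.coe_mul, inv_mul_cancel,
      Matrix.SpecialLinearGroup.coe_one, adM_one]
  have hinv' : adM A.1 * adM (A⁻¹).1 = 1 := by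
    rw [← adM_mul, ← Matrix.SpecialLinearGroup.coe_mul, mul_inv_cancel,
      Matrix.SpecialLinearGroup.coe_one, adM_one]
  have hg₁f : ∀ v w, form (g₁ *ᵥ v) (g₁ *ᵥ w) = form v w := fun v w => by
    rw [hg₁, ← Matrix.mulVec_mulVec, ← Matrix.mulVec_mulVec, form_adM, (A⁻¹).2, one_pow, one_mul,
      hg]
  have hg₁e : g₁ *ᵥ ![0, 1, 0] = ![0, 1, 0] := by
    rw [hg₁, ← Matrix.mulVec_mulVec, ← ha, ← hAa, Matrix.mulVec_mulVec, hinv, Matrix.one_mulVec]
  set f := g₁ *ᵥ ![0, 0, 1] with hf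
  have hf2 : f 2 = 1 := by
    have h := hg₁f ![0, 1, 0] ![0, 0, 1]
    rw [← hf, hg₁e] at h
    simpa [form] using h
  have hf1 : f 1 = -f 0 ^ 2 := by
    have h := hg₁f ![0, 0, 1] ![0, 0, 1]
    rw [← hf] at h
    simp only [form, hf2, Matrix.cons_val_zero, Matrix.cons_val_one, Matrix.cons_val] at h
    have : 2 * (f 1 + f 0 ^ 2) = 0 := by linear_combination h
    exact eq_neg_of_add_eq_zero_left ((mul_eq_zero.1 this).resolve_left h2)
  set U : Matrix.SpecialLinearGroup (Fin 2) k :=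
    ⟨!![1, f 0; 0, 1], by simp [Matrix.det_fin_two_of]⟩ with hU
  have hUe : adM U.1 *ᵥ ![0, 1, 0] = ![0, 1, 0] := by
    funext i
    fin_cases i <;> simp [adM, hU, Matrix.mulVec, dotProduct, Fin.sum_univ_three]
  have hUf : adM U.1 *ᵥ ![0, 0, 1] = f := by
    funext i
    fin_cases i <;> simp [adM, hU, Matrix.mulVec, dotProduct, Fin.sum_univ_three, hf1, hf2]
  have hinvU : adM (U⁻¹).1 * adM U.1 = 1 := by
    rw [← adM_mul, ← Matrix.SpecialLinearGroup.coe_mul, inv_mul_cancel,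
      Matrix.SpecialLinearGroup.coe_one, adM_one]
  have hinvU' : adM U.1 * adM (U⁻¹).1 = 1 := by
    rw [← adM_mul, ← Matrix.SpecialLinearGroup.coe_mul, mul_inv_cancel,
      Matrix.SpecialLinearGroup.coe_one, adM_one]
  obtain ⟨g₂, hg₂⟩ : ∃ g₂, g₂ = adM (U⁻¹).1 * g₁ := ⟨_, rfl⟩
  have hg₂f : ∀ v w, form (g₂ *ᵥ v) (g₂ *ᵥ w) = form v w := fun v w => by
    rw [hg₂, ← Matrix.mulVec_mulVec, ← Matrix.mulVec_mulVec, form_adM, (U⁻¹).2, one_pow, one_mul,
      hg₁f]
  have h21 : g₂ *ᵥ ![0, 1, 0] = ![0, 1, 0] := by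
    conv_lhs => rw [hg₂, ← Matrix.mulVec_mulVec, hg₁e, ← hUe, Matrix.mulVec_mulVec, hinvU]
    simp
  have h22 : g₂ *ᵥ ![0, 0, 1] = ![0, 0, 1] := by
    rw [hg₂, ← Matrix.mulVec_mulVec, ← hf, ← hUf, Matrix.mulVec_mulVec, hinvU]
    simp
  have hdet2 : g₂.det = 1 := by
    rw [hg₂, hg₁, Matrix.det_mul, Matrix.det_mul, det_adM, det_adM, (U⁻¹).2, (A⁻¹).2, hdet]
    ring
  have e01 : g₂ 0 1 = 0 ∧ g₂ 1 1 = 1 ∧ g₂ 2 1 = 0 := by
    refine ⟨?_, ?_, ?_⟩
    · simpa [Matrix.mulVec, dotProduct, Fin.sum_univ_three] using congrFun h21 0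
    · simpa [Matrix.mulVec, dotProduct, Fin.sum_univ_three] using congrFun h21 1
    · simpa [Matrix.mulVec, dotProduct, Fin.sum_univ_three] using congrFun h21 2
  have e02 : g₂ 0 2 = 0 ∧ g₂ 1 2 = 0 ∧ g₂ 2 2 = 1 := by
    refine ⟨?_, ?_, ?_⟩
    · simpa [Matrix.mulVec, dotProduct, Fin.sum_univ_three] using congrFun h22 0
    · simpa [Matrix.mulVec, dotProduct, Fin.sum_univ_three] using congrFun h22 1
    · simpa [Matrix.mulVec, dotProduct, Fin.sum_univ_three] using congrFun h22 2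
  have e20 : g₂ 2 0 = 0 := by
    have h := hg₂f ![1, 0, 0] ![0, 1, 0]
    rw [h21] at h
    simpa [form, Matrix.mulVec, dotProduct, Fin.sum_univ_three] using h
  have e10 : g₂ 1 0 = 0 := by
    have h := hg₂f ![1, 0, 0] ![0, 0, 1]
    rw [h22] at h
    simpa [form, Matrix.mulVec, dotProduct, Fin.sum_univ_three] using h
  have e00 : g₂ 0 0 = 1 := by
    rw [Matrix.det_fin_three, e01.1, e01.2.1, e01.2.2, e02.1, e02.2.1, e02.2.2] at hdet2
    simpa using hdet2
  have hone : g₂ = 1 := by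
    ext i j
    fin_cases i <;> fin_cases j <;> simp [e00, e10, e20, e01, e02]
  refine ⟨A * U, ?_⟩
  rw [Matrix.SpecialLinearGroup.coe_mul, adM_mul, ← mul_one (adM U.1), ← hone, hg₂,
    ← mul_assoc (adM U.1), hinvU', one_mul, hg₁, ← mul_assoc, hinv', one_mul]

/-- The kernel of the adjoint action is the centre. -/
theorem mem_center_iff (A : Matrix.SpecialLinearGroup (Fin 2) k) :
    A ∈ Subgroup.center (Matrix.SpecialLinearGroup (Fin 2) k) ↔ adM A.1 = 1 := by
  rw [Matrix.SpecialLinearGroup.mem_center_iff]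
  constructor
  · rintro ⟨r, hr, hA⟩
    rw [← hA]
    rw [show Fintype.card (Fin 2) = 2 from rfl] at hr
    ext i j
    fin_cases i <;> fin_cases j <;> simp [adM] <;> first | (rw [← pow_two]; exact hr) | simpa using hr
  · intro h
    have hdet := A.2
    rw [Matrix.det_fin_two] at hdet
    have h11 := congrFun (congrFun h 1) 1
    have h12 := congrFun (congrFun h 1) 2
    have h21 := congrFun (congrFun h 2) 1
    simp [adM] at h11 h12 h21
    have hAd : A.1 0 0 * A.1 1 1 = 1 := by linear_combination hdet + A.1 1 0 * h12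
    refine ⟨A.1 0 0, ?_, ?_⟩
    · rw [show Fintype.card (Fin 2) = 2 from rfl]
      rcases h11 with h11 | h11 <;> rw [h11] <;> ring
    · have hdd : A.1 1 1 = A.1 0 0 := by
        rcases h11 with h11 | h11 <;> rw [h11] at hAd ⊢
        · linear_combination hAd
        · linear_combination -hAd
      ext i j
      fin_cases i <;> fin_cases j <;> simp [h12, h21, hdd]

end Cfsg.Agent.Lib.SmallRep.Ad
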