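import Cfsg.Agent.Lib.SmallRep.Block
import Cfsg.Agent.Lib.SmallRep.Ad
import Mathlib.LinearAlgebra.Eigenspace.Triangularizable
import Mathlib.LinearAlgebra.Matrix.ProjectiveSpecialLinearGroup

/-!
# Small irreducible representations map into `PSL₂`

If `G` is generated by conjugates of an element `x` of order `p`, `p² ∤ |G|`, and `G` has an
irreducible representation in characteristic `p` of dimension less than `p / 2` in which `x` is
non-trivial, then `G` modulo scalars embeds in `PSL₂`: the image of `sl₂` at `x` lifts to a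
three-dimensional constituent of the endomorphisms.
-/

set_option autoImplicit false
set_option linter.unusedSectionVars false

namespace Cfsg.Agent.Lib.SmallRep.Adjoint

open Matrix
open Cfsg.Agent.Lib.SmallRep.Model

variable {k : Type*} [Field k] {V : Type*} [AddCommGroup V] [Module k V] [FiniteDimensional k V]
  {G : Type*} [Group G]

/-- Conjugation on endomorphisms. -/
def conjRep (c : G →* Module.End k V) : G →* Module.End k (Module.End k V) where
  toFun g := (LinearMap.mulLeft k (c g)).comp (LinearMap.mulRight k (c g⁻¹))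
  map_one' := LinearMap.ext fun T => by simp
  map_mul' g h := LinearMap.ext fun T => by
    simp [mul_assoc]

theorem conjRep_apply (c : G →* Module.End k V) (g : G) (T : Module.End k V) :
    conjRep c g T = c g * (T * c g⁻¹) := rfl

/-- The trace form. -/
noncomputable def tr2 : Module.End k V →ₗ[k] Module.End k V →ₗ[k] k :=
  (LinearMap.mul k (Module.End k V)).compr₂ (LinearMap.trace k V)

theorem tr2_apply (S T : Module.End k V) : tr2 S T = LinearMap.trace k V (S * T) := rfl

theorem eq_zero_of_tr2 {S : Module.End k V} (h : ∀ T, tr2 S T = 0) : S = 0 := by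
  refine LinearMap.ext fun v => ?_
  refine (Module.forall_dual_apply_eq_zero_iff k (S v)).1 fun f => ?_
  have h2 := h (f.smulRight v)
  rw [tr2_apply, show S * f.smulRight v = f.smulRight (S v) from LinearMap.ext fun w => by simp,
    LinearMap.trace_smulRight] at h2
  exact h2

/-- A scalar commutant. -/
theorem exists_scalar [IsAlgClosed k] [Nontrivial V] (c : G →* Module.End k V)
    (hirr : ∀ S : Submodule k V, (∀ g, ∀ v ∈ S, c g v ∈ S) → S = ⊥ ∨ S = ⊤) (T : Module.End k V)
    (hT : ∀ g, Commute T (c g)) : ∃ a : k, T = a • 1 := by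
  obtain ⟨a, ha⟩ := Module.End.exists_eigenvalue T
  refine ⟨a, ?_⟩
  rcases hirr (Module.End.eigenspace T a) (fun g v hv => by
    rw [Module.End.mem_eigenspace_iff] at hv ⊢
    rw [← Module.End.mul_apply, (hT g).eq, Module.End.mul_apply, hv, map_smul]) with h | h
  · exact absurd h ha
  · refine LinearMap.ext fun v => ?_
    have hv : v ∈ Module.End.eigenspace T a := h ▸ Submodule.mem_top
    rw [Module.End.mem_eigenspace_iff] at hv
    simpa using hv

theorem adM_up_mulVec (v : Fin 3 → k) :
    Ad.adM !![1, 1; 0, 1] *ᵥ v = ![v 0 + v 2, -2 * v 0 + v 1 - v 2, v 2] := by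
  funext i
  fin_cases i <;> simp [Ad.adM, Matrix.mulVec, dotProduct, Fin.sum_univ_three] <;> ring

theorem comb_smul (d : ℕ) (a : k) (v : Fin 3 → k) : comb d (a • v) = a • comb d v := by
  simp only [comb, Pi.smul_apply, smul_eq_mul, smul_add, smul_smul]

theorem comb_add (d : ℕ) (v w : Fin 3 → k) : comb d (v + w) = comb d v + comb d w := by
  simp only [comb, Pi.add_apply, add_smul]
  abel

set_option maxHeartbeats 1000000 in
/-- The homomorphism to `PSL₂`, for a representation in which `x` has short Jordan blocks. -/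
theorem exists_hom_of_short [IsAlgClosed k] [Finite G] {p : ℕ} [Fact p.Prime] [CharP k p]
    (c : G →* Module.End k V)
    (hirr : ∀ S : Submodule k V, (∀ g, ∀ v ∈ S, c g v ∈ S) → S = ⊥ ∨ S = ⊤)
    {x : G} (hx : orderOf x = p) (hG : ¬ p ^ 2 ∣ Nat.card G) (hcx : c x ≠ 1)
    (hd : Module.finrank k V + 1 < p) {r : ℕ} (hr : 2 * r ≤ p) (hnilX : (c x - 1) ^ r = 0)
    (hgen : Subgroup.normalClosure {x} = ⊤) :
    ∃ φ : G →* Matrix.ProjectiveSpecialLinearGroup (Fin 2) k,
      ∀ g, φ g = 1 ↔ ∃ a : k, c g = a • 1 := by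
  classical
  obtain ⟨m, l, ι, hm2, hl1, hlm, hιinj, hιX, hιtr, hιN⟩ :=
    Block.exists_model c hirr hx hG hcx (by omega)
  have hl : l ≤ Module.finrank k V := by
    rw [← hlm]; exact Nat.le_mul_of_pos_right _ (by omega)
  have hm : m ≤ Module.finrank k V := by
    rw [← hlm]; exact Nat.le_mul_of_pos_left _ (by omega)
  haveI : Nontrivial V := Module.finrank_pos_iff.1 (show 0 < Module.finrank k V by omega)
  haveI : CharP (Module.End k V) p :=
    charP_of_injective_algebraMap (algebraMap k (Module.End k V)).injective p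
  have hne : ∀ n : ℕ, 0 < n → n < p → (n : k) ≠ 0 := fun n h0 hn h =>
    Nat.not_dvd_of_pos_of_lt h0 hn ((CharP.cast_eq_zero_iff k p n).1 h)
  have h2 : (2 : k) ≠ 0 := by exact_mod_cast hne 2 two_pos (by omega)
  set tEF := (lowE k m * raiseF k m).trace with htEF
  have htEF0 : tEF ≠ 0 := by
    intro h
    have h6 := trace_EF (k := k) (d := m)
    rw [← htEF, h, mul_zero] at h6
    have : ((m * (m + 1) * (m - 1) : ℕ) : k) = 0 := by
      rw [Nat.cast_mul, Nat.cast_mul, Nat.cast_sub (by omega : 1 ≤ m)]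
      push_cast
      exact h6.symm
    rw [Nat.cast_mul, Nat.cast_mul] at this
    rcases mul_eq_zero.1 this with h' | h'
    · rcases mul_eq_zero.1 h' with h'' | h''
      · exact hne m (by omega) (by omega) h''
      · exact hne (m + 1) (by omega) (by omega) h''
    · exact hne (m - 1) (by omega) (by omega) h'
  set κ : k := (l : k) * tEF
  have hκ : κ ≠ 0 := mul_ne_zero (hne l (by omega) (by omega)) htEF0
  set C : (Fin 3 → k) →ₗ[k] Module.End k V :=
    { toFun := fun v => ι (comb m v)
      map_add' := fun v w => by rw [comb_add, map_add]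
      map_smul' := fun a v => by rw [comb_smul, map_smul, RingHom.id_apply] } with hC
  have hCapply : ∀ v, C v = ι (comb m v) := fun v => rfl
  have hform : ∀ v w, tr2 (C v) (C w) = κ * Ad.form v w := by
    intro v w
    rw [tr2_apply, hCapply, hCapply, ← map_mul, hιtr, trace_form v w h2, Ad.form]
    ring
  -- the coordinates of the projection
  set γ : Module.End k V →ₗ[k] (Fin 3 → k) := LinearMap.pi
    ![(2 * κ)⁻¹ • tr2.flip (C ![1, 0, 0]), κ⁻¹ • tr2.flip (C ![0, 0, 1]),
      κ⁻¹ • tr2.flip (C ![0, 1, 0])] with hγ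
  have hγ0 : ∀ T, γ T 0 = (2 * κ)⁻¹ * tr2 T (C ![1, 0, 0]) := fun T => rfl
  have hγ1 : ∀ T, γ T 1 = κ⁻¹ * tr2 T (C ![0, 0, 1]) := fun T => rfl
  have hγ2 : ∀ T, γ T 2 = κ⁻¹ * tr2 T (C ![0, 1, 0]) := fun T => rfl
  have hγC : ∀ v, γ (C v) = v := by
    intro v
    funext i
    fin_cases i
    · show γ (C v) 0 = v 0
      rw [hγ0, hform, Ad.form]; simp; field_simp
    · show γ (C v) 1 = v 1
      rw [hγ1, hform, Ad.form]; simp; field_simp
    · show γ (C v) 2 = v 2
      rw [hγ2, hform, Ad.form]; simp; field_simp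
  have hγeq : ∀ T T', (∀ w, tr2 T (C w) = tr2 T' (C w)) → γ T = γ T' := by
    intro T T' h
    funext i
    fin_cases i
    · show γ T 0 = γ T' 0
      rw [hγ0, hγ0, h]
    · show γ T 1 = γ T' 1
      rw [hγ1, hγ1, h]
    · show γ T 2 = γ T' 2
      rw [hγ2, hγ2, h]
  have hproj : ∀ T w, tr2 T (C w) = κ * Ad.form (γ T) w := by
    intro T w
    have hw : w = w 0 • ![1, 0, 0] + w 1 • ![0, 1, 0] + w 2 • ![(0 : k), 0, 1] := by
      funext i; fin_cases i <;> simp
    conv_lhs => rw [hw]
    simp only [map_add, map_smul, smul_eq_mul, Ad.form, hγ0, hγ1, hγ2]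
    field_simp
    ring
  set e : Module.End k (Module.End k V) := C.comp γ with he
  have heapply : ∀ T, e T = C (γ T) := fun T => rfl
  have hsymm : ∀ S T : Module.End k V, tr2 S T = tr2 T S := fun S T => by
    rw [tr2_apply, tr2_apply, LinearMap.trace_mul_comm]
  have hinvB : ∀ g u v, tr2 (conjRep c g u) (conjRep c g v) = tr2 u v := by
    intro g u v
    have h : c g⁻¹ * c g = 1 := by rw [← map_mul, inv_mul_cancel, map_one]
    rw [tr2_apply, tr2_apply, conjRep_apply, conjRep_apply,
      show c g * (u * c g⁻¹) * (c g * (v * c g⁻¹)) = c g * (u * (c g⁻¹ * c g) * v * c g⁻¹) by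
        simp only [mul_assoc], h, mul_one, LinearMap.trace_mul_comm, mul_assoc (u * v), h, mul_one]
  have hesa : ∀ u v, tr2 (e u) v = tr2 u (e v) := by
    intro u v
    rw [heapply, heapply, hproj u, hsymm, hproj v, Ad.form, Ad.form]
    ring
  have heN : ∀ g ∈ Subgroup.normalizer (Subgroup.zpowers x : Set G),
      Commute e (conjRep c g) := by
    intro g hg
    obtain ⟨L₃, hL₃⟩ := hιN g hg
    obtain ⟨L₄, hL₄⟩ := hιN g⁻¹ (inv_mem hg)
    have hconj : ∀ {g : G} {L : (Fin 3 → k) → (Fin 3 → k)},
        (∀ v, c g * ι (comb m v) = ι (comb m (L v)) * c g) →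
        ∀ v, conjRep c g (C v) = C (L v) := by
      intro g L h v
      rw [conjRep_apply, hCapply, hCapply, ← mul_assoc, h, mul_assoc, ← map_mul, mul_inv_cancel,
        map_one, mul_one]
    refine LinearMap.ext fun T => ?_
    show e (conjRep c g T) = conjRep c g (e T)
    rw [heapply, heapply, hconj hL₃]
    congr 1
    conv_rhs => rw [← hγC (L₃ (γ T))]
    refine hγeq _ _ fun w => ?_
    have hw : conjRep c g (C (L₄ w)) = C w := by
      rw [← hconj hL₄, ← Module.End.mul_apply, ← map_mul, mul_inv_cancel, map_one,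
        Module.End.one_apply]
    rw [← hw, hinvB, hproj, ← hconj hL₃, hinvB, hform]
  have hee : ∀ T, e (e T) = e T := fun T => by rw [heapply, heapply, hγC]
  -- the conjugation by `x` is unipotent
  have hXp : c x ^ p = 1 := by rw [← map_pow, ← hx, pow_orderOf_eq_one, map_one]
  have hXi : c x⁻¹ * c x = 1 := by rw [← map_mul, inv_mul_cancel, map_one]
  have hXi' : c x * c x⁻¹ = 1 := by rw [← map_mul, mul_inv_cancel, map_one]
  have hnilY : (c x⁻¹ - 1) ^ r = 0 := by
    have h1 : c x⁻¹ - 1 = -c x⁻¹ * (c x - 1) := by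
      rw [neg_mul, mul_sub, hXi, mul_one, neg_sub]
    have h2' : Commute (-c x⁻¹) (c x - 1) := by
      refine (Commute.sub_right ?_ (Commute.one_right _)).neg_left
      exact hXi.trans hXi'.symm
    rw [h1, h2'.mul_pow, hnilX, mul_zero]
  have hW : (conjRep c x - 1) ^ (p - 1) = 0 := by
    set a := (LinearMap.mulLeft k (c x - 1)) * (LinearMap.mulRight k (c x⁻¹))
    set b := LinearMap.mulRight k (c x⁻¹ - 1)
    have hab : conjRep c x - 1 = a + b := by
      refine LinearMap.ext fun T => ?_
      show c x * (T * c x⁻¹) - T = (c x - 1) * (T * c x⁻¹) + T * (c x⁻¹ - 1)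
      rw [sub_mul, one_mul, mul_sub, mul_one]
      abel
    have hc : Commute a b := by
      refine LinearMap.ext fun T => ?_
      show (c x - 1) * (T * (c x⁻¹ - 1) * c x⁻¹) = (c x - 1) * (T * c x⁻¹) * (c x⁻¹ - 1)
      simp only [mul_assoc]
      congr 2
      rw [sub_mul, mul_sub, one_mul, mul_one]
    have ha0 : a ^ r = 0 := by
      rw [Commute.mul_pow (LinearMap.commute_mulLeft_right _ _), LinearMap.pow_mulLeft, hnilX]
      simp
    have hb0 : b ^ r = 0 := by
      rw [LinearMap.pow_mulRight, hnilY]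
      simp
    rw [hab]
    exact hc.add_pow_eq_zero_of_add_le_succ_of_pow_eq_zero ha0 hb0 (by omega)
  obtain ⟨Φ, hΦc, hΦcompl, hΦrank, hΦkill, hΦfix, hΦsa⟩ :=
    Lift.exists_lift (conjRep c) hx hG hW e hee heN
  set U := LinearMap.range Φ
  have hCinj : Function.Injective C := Function.LeftInverse.injective hγC
  have hrange : LinearMap.range e = LinearMap.range C := by
    refine le_antisymm ?_ ?_
    · rintro T ⟨S, rfl⟩; exact ⟨γ S, rfl⟩
    · rintro T ⟨v, rfl⟩; exact ⟨C v, by rw [heapply, hγC]⟩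
  have hUdim : Module.finrank k U = Module.finrank k (Fin 3 → k) := by
    rw [hΦrank, hrange, LinearMap.finrank_range_of_inj hCinj]
  let τ : U ≃ₗ[k] (Fin 3 → k) := LinearEquiv.ofBijective (γ.comp U.subtype) (by
    have hi : Function.Injective (γ.comp U.subtype) := (injective_iff_map_eq_zero _).2
      fun u hu => Subtype.ext (hΦkill _ u.2 (by
        rw [heapply, show γ (u : Module.End k V) = 0 from hu, map_zero]))
    exact ⟨hi, (LinearMap.injective_iff_surjective_of_finrank_eq_finrank hUdim).1 hi⟩)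
  set σ : (Fin 3 → k) →ₗ[k] Module.End k V := U.subtype.comp τ.symm.toLinearMap with hσ
  have hσmem : ∀ v, σ v ∈ U := fun v => (τ.symm v).2
  have hγσ : ∀ v, γ (σ v) = v := fun v => τ.apply_symm_apply v
  have hσγ : ∀ T ∈ U, σ (γ T) = T := fun T hT =>
    congrArg Subtype.val (τ.symm_apply_apply ⟨T, hT⟩)
  have hUinv : ∀ g, ∀ T ∈ U, conjRep c g T ∈ U := by
    rintro g T ⟨S, rfl⟩
    exact ⟨conjRep c g S, LinearMap.congr_fun (hΦc g).eq S⟩
  set Mx : (Fin 3 → k) → (Fin 3 → k) := fun v => ![v 0 + v 2, -2 * v 0 + v 1 - v 2, v 2] with hMx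
  have hCx : ∀ v, conjRep c x (C v) = C (Mx v) := by
    intro v
    rw [conjRep_apply, hCapply, hCapply, ← mul_assoc, ← hιX, ← map_mul, pasc_comb, map_mul,
      mul_assoc, hιX, hXi', mul_one]
  have hγx : ∀ T, γ (conjRep c x T) = Mx (γ T) := by
    intro T
    have h := LinearMap.congr_fun
      (heN x (Subgroup.le_normalizer (Subgroup.mem_zpowers x))).eq T
    simp only [Module.End.mul_apply, heapply, hCx] at h
    exact hCinj h
  have hσx : ∀ v, conjRep c x (σ v) = σ (Mx v) := fun v => by
    conv_lhs => rw [← hσγ _ (hUinv x _ (hσmem v))]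
    rw [hγx, hγσ]
  -- the fixed vector
  set aE : Fin 3 → k := ![0, 1, 0] with haE
  have hMxE : Mx aE = aE := by funext i; fin_cases i <;> simp [hMx, haE]
  have hσE : σ aE = C aE := by
    have hfx : conjRep c x (C aE) = C aE := by rw [hCx, hMxE]
    have hmem : C aE ∈ U := ⟨C aE, by rw [hΦfix _ hfx, heapply, hγC]⟩
    conv_rhs => rw [← hσγ _ hmem, hγC]
  -- the form on `U`
  have hnd : ∀ u ∈ U, (∀ u' ∈ U, tr2 u u' = 0) → u = 0 := by
    intro u hu h
    refine eq_zero_of_tr2 fun T => ?_
    obtain ⟨T₁, hT₁, T₂, hT₂, rfl⟩ := Submodule.mem_sup.1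
      (show T ∈ LinearMap.ker Φ ⊔ U by rw [hΦcompl.sup_eq_top]; trivial)
    rw [map_add, h _ hT₂, add_zero]
    obtain ⟨S, rfl⟩ := hu
    rw [hΦsa tr2 hinvB hesa, show Φ T₁ = 0 from hT₁, map_zero]
  set β : (Fin 3 → k) → (Fin 3 → k) → k := fun v w => tr2 (σ v) (σ w) with hβ
  have hβsymm : ∀ v w, β v w = β w v := fun v w => hsymm _ _
  have hβx : ∀ v w, β (Mx v) (Mx w) = β v w := fun v w => by
    simp only [hβ, ← hσx, hinvB]
  set aH : Fin 3 → k := ![1, 0, 0] with haH
  set aF : Fin 3 → k := ![0, 0, 1] with haF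
  have hMxH : Mx aH = aH + (-2 : k) • aE := by funext i; fin_cases i <;> simp [hMx, haE, haH]
  have hMxF : Mx aF = aF + aH + (-1 : k) • aE := by
    funext i; fin_cases i <;> simp [hMx, haE, haH, haF]
  have hdecomp : ∀ v : Fin 3 → k, v = v 0 • aH + v 1 • aE + v 2 • aF := fun v => by
    funext i; fin_cases i <;> simp [haE, haH, haF]
  have bl : ∀ (v w : Fin 3 → k), β v w =
      v 0 * w 0 * β aH aH + v 1 * w 1 * β aE aE + v 2 * w 2 * β aF aF +
      (v 0 * w 1 + v 1 * w 0) * β aH aE + (v 0 * w 2 + v 2 * w 0) * β aH aF +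
      (v 1 * w 2 + v 2 * w 1) * β aE aF := by
    intro v w
    conv_lhs => rw [hdecomp v, hdecomp w]
    simp only [hβ, map_add, map_smul, LinearMap.add_apply, LinearMap.smul_apply, smul_eq_mul]
    rw [hsymm (σ aE) (σ aH), hsymm (σ aF) (σ aH), hsymm (σ aF) (σ aE)]
    ring
  have q1 := hβx aH aE
  have q2 := hβx aF aE
  have q3 := hβx aF aH
  have q4 := hβx aF aF
  rw [hMxE, hMxH, bl (aH + (-2 : k) • aE)] at q1
  rw [hMxE, hMxF, bl (aF + aH + (-1 : k) • aE)] at q2
  rw [hMxH, hMxF, bl (aF + aH + (-1 : k) • aE), hβsymm aF aH] at q3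
  rw [hMxF, bl (aF + aH + (-1 : k) • aE)] at q4
  simp [haE, haH, haF] at q1 q2 q3 q4
  have hEE : β aE aE = 0 := by
    rcases q1 with h | h
    · exact absurd h h2
    · exact h
  have hHE : β aH aE = 0 := by
    rw [hβsymm aF aE] at q2
    linear_combination q2 + hEE
  have hHH : β aH aH = 2 * β aE aF := by
    linear_combination q3 + 3 * hHE - 2 * hEE
  have hHF : β aH aF = 0 := by
    have : 2 * β aH aF = 0 := by linear_combination q4 - hHH + 2 * hHE - hEE
    exact (mul_eq_zero.1 this).resolve_left h2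
  set κ' := β aE aF with hκ'
  have hκ'0 : κ' ≠ 0 := by
    intro h
    have h0 : σ aE = 0 := hnd _ (hσmem _) fun u' hu' => by
      rw [← hσγ u' hu']
      show β aE _ = 0
      rw [bl]
      simp [haE]
      rw [hEE, hHE, h]
      ring
    rw [hσE] at h0
    have := hγC aE
    rw [h0, map_zero] at this
    simpa [haE] using congrFun this 1
  set lam : k := -(β aF aF) / (2 * κ') with hlam
  set σ' : (Fin 3 → k) →ₗ[k] Module.End k V :=
    { toFun := fun v => σ ![v 0, v 1 + lam * v 2, v 2]
      map_add' := fun v w => by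
        rw [← map_add]; congr 1; funext i; fin_cases i <;> simp <;> ring
      map_smul' := fun a v => by
        rw [RingHom.id_apply, ← map_smul]; congr 1; funext i; fin_cases i <;> simp <;> ring }
    with hσ'
  set γ' : Module.End k V → (Fin 3 → k) := fun T => ![γ T 0, γ T 1 - lam * γ T 2, γ T 2] with hγ'
  have hσγ' : ∀ T ∈ U, σ' (γ' T) = T := by
    intro T hT
    show σ _ = T
    conv_rhs => rw [← hσγ T hT]
    congr 1
    funext i
    fin_cases i <;> simp [hγ']
  have hσ'mem : ∀ v, σ' v ∈ U := fun v => hσmem _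
  have hσ'inj : Function.Injective σ' := fun v w h => by
    have h' := congrArg γ h
    change γ (σ _) = γ (σ _) at h'
    rw [hγσ, hγσ] at h'
    have e0 := congrFun h' 0
    have e1 := congrFun h' 1
    have e2 := congrFun h' 2
    simp at e0 e1 e2
    funext i
    fin_cases i
    · simpa using e0
    · rw [e2] at e1; simpa using e1
    · simpa using e2
  have hform' : ∀ v w, tr2 (σ' v) (σ' w) = κ' * Ad.form v w := by
    intro v w
    show β _ _ = _
    rw [bl, Ad.form, hEE, hHE, hHH, hHF, hlam]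
    simp only [Matrix.cons_val_zero, Matrix.cons_val_one, Matrix.cons_val]
    field_simp
    ring
  have hσ'x : ∀ v, conjRep c x (σ' v) = σ' (Mx v) := by
    intro v
    show conjRep c x (σ _) = σ _
    rw [hσx]
    congr 1
    funext i
    fin_cases i <;> simp [hMx] <;> ring
  -- the representation on `U`
  let ψ0 : G → (Fin 3 → k) →ₗ[k] (Fin 3 → k) := fun g =>
    { toFun := fun v => γ' (conjRep c g (σ' v))
      map_add' := fun v w => hσ'inj (by
        rw [hσγ' _ (hUinv _ _ (hσ'mem _)), map_add σ', map_add σ',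
          hσγ' _ (hUinv _ _ (hσ'mem _)), hσγ' _ (hUinv _ _ (hσ'mem _)), map_add])
      map_smul' := fun a v => hσ'inj (by
        rw [RingHom.id_apply, hσγ' _ (hUinv _ _ (hσ'mem _)), map_smul σ', map_smul σ',
          hσγ' _ (hUinv _ _ (hσ'mem _)), map_smul]) }
  have hψ0 : ∀ g v, σ' (ψ0 g v) = conjRep c g (σ' v) := fun g v => hσγ' _ (hUinv _ _ (hσ'mem _))
  let ψ : G →* Matrix (Fin 3) (Fin 3) k :=
    { toFun := fun g => LinearMap.toMatrix' (ψ0 g)
      map_one' := by
        rw [← LinearMap.toMatrix'_id]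
        congr 1
        exact LinearMap.ext fun v => hσ'inj (by rw [hψ0, map_one]; rfl)
      map_mul' := fun g h => by
        rw [← LinearMap.toMatrix'_comp]
        congr 1
        exact LinearMap.ext fun v => hσ'inj (by
          rw [hψ0, LinearMap.comp_apply, hψ0, hψ0, map_mul]; rfl) }
  have hψv : ∀ g v, σ' (ψ g *ᵥ v) = conjRep c g (σ' v) := by
    intro g v
    show σ' (LinearMap.toMatrix' (ψ0 g) *ᵥ v) = _
    rw [LinearMap.toMatrix'_mulVec, hψ0]
  have hψform : ∀ g v w, Ad.form (ψ g *ᵥ v) (ψ g *ᵥ w) = Ad.form v w := fun g v w => by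
    refine mul_left_cancel₀ hκ'0 ?_
    rw [← hform', hψv, hψv, hinvB, hform']
  have hψdet : ∀ g, (ψ g).det = 1 := by
    let D : G →* k := Matrix.detMonoidHom.comp ψ
    let δ : G →* kˣ := D.toHomUnits
    have h1 : δ x = 1 := by
      have hp1 : (D x) ^ p = 1 := by rw [← map_pow, ← hx, pow_orderOf_eq_one, map_one]
      refine Units.ext ?_
      show D x = 1
      exact sub_eq_zero.1 (pow_eq_zero_iff (Fact.out : p.Prime).ne_zero |>.1
        (by rw [sub_pow_char, hp1, one_pow, sub_self]))
    intro g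
    have hk : Subgroup.normalClosure {x} ≤ δ.ker :=
      Subgroup.normalClosure_le_normal (by simpa using h1)
    have : δ g = 1 := hk (by rw [hgen]; trivial)
    exact congrArg Units.val this
  have hA : ∀ g, ∃ A : Matrix.SpecialLinearGroup (Fin 2) k, Ad.adM A.1 = ψ g := fun g =>
    Ad.exists_adM h2 (ψ g) (hψdet g) (hψform g)
  choose A hA using hA
  have hcen : ∀ A B : Matrix.SpecialLinearGroup (Fin 2) k, Ad.adM A.1 = Ad.adM B.1 →
      (QuotientGroup.mk A : Matrix.ProjectiveSpecialLinearGroup (Fin 2) k) = QuotientGroup.mk B := by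
    intro A B h
    refine QuotientGroup.eq.2 ((Ad.mem_center_iff _).2 ?_)
    rw [Matrix.SpecialLinearGroup.coe_mul, Ad.adM_mul, ← h, ← Ad.adM_mul,
      ← Matrix.SpecialLinearGroup.coe_mul, inv_mul_cancel, Matrix.SpecialLinearGroup.coe_one,
      Ad.adM_one]
  let φ : G →* Matrix.ProjectiveSpecialLinearGroup (Fin 2) k :=
    MonoidHom.mk' (fun g => QuotientGroup.mk (A g)) fun g h => by
      rw [← QuotientGroup.mk_mul]
      refine hcen _ _ ?_
      rw [Matrix.SpecialLinearGroup.coe_mul, Ad.adM_mul, hA, hA, hA, map_mul]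
  have hφ : ∀ g, φ g = 1 ↔ ψ g = 1 := fun g => by
    rw [← hA g, ← Ad.mem_center_iff]
    exact QuotientGroup.eq_one_iff _
  refine ⟨φ, fun g => ⟨fun h => ?_, ?_⟩⟩
  · rw [hφ] at h
    -- the kernel commutes with `x`
    have hker : ∀ g, ψ g = 1 → Commute (c g) (c x) := by
      intro g hg
      have h1 : conjRep c g (σ' aE) = σ' aE := by rw [← hψv, hg, Matrix.one_mulVec]
      have hσ'E : σ' aE = C aE := by
        rw [← hσE]
        show σ _ = σ _
        congr 1
        funext i
        fin_cases i <;> simp [haE]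
      rw [hσ'E, conjRep_apply] at h1
      have h2' : c g * C aE = C aE * c g := by
        conv_rhs => rw [← h1]
        rw [mul_assoc (c g), mul_assoc (C aE), ← map_mul, inv_mul_cancel, map_one, mul_one]
      have hCE : C aE = ι (lowE k m) := by rw [hCapply]; simp [comb, haE]
      have hcomm : Commute (c g) (ι (lowE k m)) := by rw [← hCE]; exact h2'
      have hcycE : Cyc (Matrix.toLin' (lowE k m)) (top k m) m :=
        cyc_of_shift isShift_lowE (by omega) fun a h0 ha => hne a h0 (by omega)
      have hcp : Commute (Matrix.toLin' (pasc k m)) (Matrix.toLin' (lowE k m)) := by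
        show Matrix.toLin' (pasc k m) ∘ₗ Matrix.toLin' (lowE k m) = _ ∘ₗ _
        rw [← Matrix.toLin'_mul, ← Matrix.toLin'_mul, pasc_lowE]
      obtain ⟨a, ha⟩ := hcycE.exists_sum (by omega) (Module.finrank_fin_fun k) hcp
      have ha' : pasc k m = ∑ i, a i • lowE k m ^ i.1 := by
        apply Matrix.toLinAlgEquiv'.injective
        rw [map_sum]
        simp only [map_smul, map_pow]
        exact ha
      rw [← hιX, ha', map_sum]
      refine Commute.sum_right _ _ _ fun i _ => ?_
      rw [map_smul, map_pow]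
      exact (hcomm.pow_right _).smul_right _
    refine exists_scalar c hirr (c g) fun y => ?_
    let T : Subgroup G :=
      { carrier := {y | ∀ g, ψ g = 1 → Commute (c g) (c y)}
        one_mem' := fun g _ => by rw [map_one]; exact Commute.one_right _
        mul_mem' := fun {a b} ha hb g hg => by
          rw [map_mul]; exact (ha g hg).mul_right (hb g hg)
        inv_mem' := fun {a} ha g hg => by
          have h := ha g hg
          have hi : c a⁻¹ * c a = 1 := by rw [← map_mul, inv_mul_cancel, map_one]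
          have hi' : c a * c a⁻¹ = 1 := by rw [← map_mul, mul_inv_cancel, map_one]
          show c g * c a⁻¹ = c a⁻¹ * c g
          calc c g * c a⁻¹ = (c a⁻¹ * c a) * c g * c a⁻¹ := by rw [hi, one_mul]
            _ = c a⁻¹ * (c g * c a) * c a⁻¹ := by rw [h.eq]; simp only [mul_assoc]
            _ = c a⁻¹ * c g := by simp only [mul_assoc, hi', mul_one] }
    haveI : T.Normal := ⟨fun y hy b g hg => by
      have hb : ψ (b⁻¹ * g * b) = 1 := by
        rw [map_mul, map_mul, hg, mul_one, ← map_mul, inv_mul_cancel, map_one]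
      have h := hy _ hb
      show c g * c (b * y * b⁻¹) = c (b * y * b⁻¹) * c g
      have h3 : c (b * ((b⁻¹ * g * b) * y) * b⁻¹) = c (b * (y * (b⁻¹ * g * b)) * b⁻¹) := by
        simp only [map_mul] at h ⊢
        rw [h.eq]
      rw [← map_mul, ← map_mul]
      calc c (g * (b * y * b⁻¹)) = c (b * ((b⁻¹ * g * b) * y) * b⁻¹) := by congr 1; group
        _ = c (b * (y * (b⁻¹ * g * b)) * b⁻¹) := h3
        _ = c (b * y * b⁻¹ * g) := by congr 1; group⟩
    have hle : Subgroup.normalClosure {x} ≤ T := Subgroup.normalClosure_le_normal (by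
      rw [Set.singleton_subset_iff]
      exact fun g hg => hker g hg)
    exact hle (by rw [hgen]; trivial) g h
  · rintro ⟨a, ha⟩
    rw [hφ]
    have h1 : ∀ T, conjRep c g T = T := by
      intro T
      rw [conjRep_apply, ha, smul_mul_assoc, one_mul, ← mul_smul_comm,
        show a • c g⁻¹ = c g * c g⁻¹ by rw [ha, smul_mul_assoc, one_mul], ← map_mul,
        mul_inv_cancel, map_one, mul_one]
    have : ∀ v, ψ g *ᵥ v = v := fun v => hσ'inj (by rw [hψv, h1])
    exact Matrix.toLin'.injective (LinearMap.ext fun v => by simpa using this v)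

/-- The homomorphism to `PSL₂`. -/
theorem exists_hom [IsAlgClosed k] [Finite G] {p : ℕ} [Fact p.Prime] [CharP k p]
    (c : G →* Module.End k V)
    (hirr : ∀ S : Submodule k V, (∀ g, ∀ v ∈ S, c g v ∈ S) → S = ⊥ ∨ S = ⊤)
    {x : G} (hx : orderOf x = p) (hG : ¬ p ^ 2 ∣ Nat.card G) (hcx : c x ≠ 1)
    (hd : 2 * Module.finrank k V + 1 ≤ p) (hgen : Subgroup.normalClosure {x} = ⊤) :
    ∃ φ : G →* Matrix.ProjectiveSpecialLinearGroup (Fin 2) k,
      ∀ g, φ g = 1 ↔ ∃ a : k, c g = a • 1 := by
  haveI : Nontrivial V := by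
    by_contra h
    rw [not_nontrivial_iff_subsingleton] at h
    exact hcx (LinearMap.ext fun v => Subsingleton.elim _ _)
  haveI : CharP (Module.End k V) p :=
    charP_of_injective_algebraMap (algebraMap k (Module.End k V)).injective p
  have := (Fact.out : p.Prime).two_le
  have := Module.finrank_pos (R := k) (M := V)
  refine exists_hom_of_short c hirr hx hG hcx (by omega) (r := Module.finrank k V) (by omega)
    (Lift.pow_finrank_eq_zero ⟨p, ?_⟩) hgen
  rw [sub_pow_char_of_commute (p := p) (Commute.one_right _), ← map_pow, ← hx, pow_orderOf_eq_one,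
    map_one, one_pow, sub_self]

end Cfsg.Agent.Lib.SmallRep.Adjoint
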