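import Mathlib.LinearAlgebra.Eigenspace.Zero
import Mathlib.RingTheory.Artinian.Module
import Mathlib.GroupTheory.Coset.Basic
import Mathlib.GroupTheory.QuotientGroup.Defs
import Mathlib.GroupTheory.OrderOfElement
import Mathlib.Algebra.CharP.Lemmas
import Mathlib.Algebra.Polynomial.Roots

/-!
# Lifting a summand from the normalizer of a subgroup of order `p`

An idempotent commuting with `N(⟨x⟩)`, summed over `G ⧸ N(⟨x⟩)`, gives an endomorphism commuting
with `G` which agrees with it on the fixed points of `x`.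
-/

set_option autoImplicit false
set_option linter.unusedSectionVars false

namespace Cfsg.Agent.Lib.SmallRep.Lift

open Polynomial

variable {k : Type*} [Field k] {W : Type*} [AddCommGroup W] [Module k W] [FiniteDimensional k W]

theorem pow_finrank_eq_zero {N : Module.End k W} (h : IsNilpotent N) :
    N ^ Module.finrank k W = 0 := by
  have h2 := LinearMap.aeval_self_charpoly N
  rw [IsNilpotent.charpoly_eq_X_pow_finrank h, map_pow, Polynomial.aeval_X] at h2
  exact h2

theorem exists_fixed {N : Module.End k W} {n : ℕ} (h : N ^ n = 0) {S : Submodule k W}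
    (hS : ∀ v ∈ S, N v ∈ S) (hne : S ≠ ⊥) : ∃ s ∈ S, s ≠ 0 ∧ N s = 0 := by
  obtain ⟨v, hv, hv0⟩ := Submodule.exists_mem_ne_zero_of_ne_bot hne
  have key : ∀ m : ℕ, ∀ v ∈ S, v ≠ 0 → (N ^ m) v = 0 → ∃ s ∈ S, s ≠ 0 ∧ N s = 0 := by
    intro m
    induction m with
    | zero => intro v _ hv0 h0; exact absurd (by simpa using h0) hv0
    | succ m ih =>
      intro v hv hv0 h0
      by_cases hN : N v = 0
      · exact ⟨v, hv, hv0, hN⟩
      · exact ih (N v) (hS v hv) hN (by rw [← Module.End.mul_apply, ← pow_succ]; exact h0)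
  exact key n v hv hv0 (by rw [h]; rfl)

theorem sum_pow_eq {p : ℕ} [Fact p.Prime] [CharP k p] (X : Module.End k W) :
    ∑ i ∈ Finset.range p, X ^ i = (X - 1) ^ (p - 1) := by
  have hp := (Fact.out : p.Prime).one_le
  have h : (∑ i ∈ Finset.range p, (Polynomial.X : k[X]) ^ i) = (Polynomial.X - 1) ^ (p - 1) := by
    refine mul_right_cancel₀ (X_sub_C_ne_zero (1 : k)) ?_
    rw [map_one, geom_sum_mul, ← pow_succ, Nat.sub_add_cancel hp, sub_pow_char, one_pow]
  have h2 := congrArg (Polynomial.aeval X) h
  simpa using h2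

/-- Averaging a projection over a group of invertible order. -/
theorem exists_average {A : Type*} [Group A] [Finite A] (c : A →* Module.End k W)
    (hA : (Nat.card A : k) ≠ 0) (K : Submodule k W) (hK : ∀ a, ∀ v ∈ K, c a v ∈ K)
    (π : Module.End k W) (h1 : ∀ v, π v ∈ K) (h2 : ∀ v ∈ K, π v = v) :
    ∃ π' : Module.End k W, (∀ v, π' v ∈ K) ∧ (∀ v ∈ K, π' v = v) ∧
      (∀ a, Commute π' (c a)) ∧
      ∀ T : Module.End k W, (∀ a, Commute π (c a⁻¹ * T * c a)) → Commute π' T := by
  classical
  haveI := Fintype.ofFinite A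
  have hinv : ∀ a : A, c a * c a⁻¹ = 1 := fun a => by rw [← map_mul, mul_inv_cancel, map_one]
  have hinv' : ∀ a : A, c a⁻¹ * c a = 1 := fun a => by rw [← map_mul, inv_mul_cancel, map_one]
  refine ⟨(Nat.card A : k)⁻¹ • ∑ a : A, c a * π * c a⁻¹, ?_, ?_, ?_, ?_⟩
  · intro v
    rw [LinearMap.smul_apply, LinearMap.sum_apply]
    exact K.smul_mem _ (K.sum_mem fun a _ => hK a _ (h1 _))
  · intro v hv
    rw [LinearMap.smul_apply, LinearMap.sum_apply]
    have : ∀ a : A, (c a * π * c a⁻¹) v = v := fun a => by
      rw [Module.End.mul_apply, Module.End.mul_apply, h2 _ (hK _ _ hv), ← Module.End.mul_apply,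
        hinv, Module.End.one_apply]
    rw [Finset.sum_congr rfl fun a _ => this a, Finset.sum_const, Finset.card_univ,
      ← Nat.card_eq_fintype_card, ← Nat.cast_smul_eq_nsmul k, smul_smul, inv_mul_cancel₀ hA,
      one_smul]
  · intro b
    refine Commute.smul_left ?_ _
    show _ * _ = _ * _
    rw [Finset.sum_mul, Finset.mul_sum]
    refine Fintype.sum_equiv (Equiv.mulLeft b⁻¹) _ _ fun a => ?_
    show c a * π * c a⁻¹ * c b = c b * (c (b⁻¹ * a) * π * c (b⁻¹ * a)⁻¹)
    rw [mul_inv_rev, inv_inv, map_mul, map_mul]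
    simp only [← mul_assoc, hinv, one_mul]
  · intro T hT
    refine Commute.smul_left (Commute.sum_left _ _ _ fun a _ => ?_) _
    show _ * _ = _ * _
    calc c a * π * c a⁻¹ * T = c a * (π * (c a⁻¹ * T * c a)) * c a⁻¹ := by
          simp only [mul_assoc, hinv, mul_one]
      _ = c a * ((c a⁻¹ * T * c a) * π) * c a⁻¹ := by rw [(hT a).eq]
      _ = T * (c a * π * c a⁻¹) := by simp only [← mul_assoc, hinv, one_mul]

variable {G : Type*} [Group G]

theorem mem_zpowers_of_orderOf [Finite G] {p : ℕ} [Fact p.Prime] {x : G} (hx : orderOf x = p)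
    (hG : ¬ p ^ 2 ∣ Nat.card G) {y : G} (hy : y ∈ Subgroup.normalizer (Subgroup.zpowers x : Set G))
    (hyp : y ^ p = 1) : y ∈ Subgroup.zpowers x := by
  set N := Subgroup.normalizer (Subgroup.zpowers x : Set G) with hN
  set P := (Subgroup.zpowers x).subgroupOf N with hP
  haveI : P.Normal := by
    refine ⟨fun n hn g => ?_⟩
    rw [hP, Subgroup.mem_subgroupOf] at hn ⊢
    exact (Subgroup.mem_normalizer_iff.1 g.2 _).1 hn
  have hcardP : Nat.card P = p := by
    rw [hP, Nat.card_congr (Subgroup.subgroupOfEquivOfLe Subgroup.le_normalizer).toEquiv,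
      Nat.card_zpowers, hx]
  have hndvd : ¬ p ∣ Nat.card (↥N ⧸ P) := by
    intro h
    refine hG (dvd_trans ?_ N.card_subgroup_dvd_card)
    rw [P.card_eq_card_quotient_mul_card_subgroup, hcardP, pow_two]
    exact mul_dvd_mul h dvd_rfl
  have h1 : (QuotientGroup.mk ⟨y, hy⟩ : ↥N ⧸ P) ^ p = 1 := by
    rw [← QuotientGroup.mk_pow, QuotientGroup.eq_one_iff]
    have : (⟨y, hy⟩ : ↥N) ^ p = 1 := Subtype.ext (by simpa using hyp)
    rw [this]
    exact one_mem _
  have h2 : (QuotientGroup.mk ⟨y, hy⟩ : ↥N ⧸ P) = 1 := by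
    rw [← orderOf_eq_one_iff]
    rcases (Nat.dvd_prime Fact.out).1 (orderOf_dvd_of_pow_eq_one h1) with h | h
    · exact h
    · exact absurd (h ▸ orderOf_dvd_natCard _) hndvd
  rw [QuotientGroup.eq_one_iff, hP, Subgroup.mem_subgroupOf] at h2
  exact h2

/-- The conjugates of `e`, indexed by the cosets of a subgroup commuting with it. -/
def transport (c : G →* Module.End k W) (H : Subgroup G) (e : Module.End k W)
    (he : ∀ g ∈ H, Commute e (c g)) : G ⧸ H → Module.End k W :=
  Quotient.lift (fun g => c g * e * c g⁻¹) fun a b hab => by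
    have hn : a⁻¹ * b ∈ H := QuotientGroup.leftRel_apply.1 hab
    have hb : c b = c a * c (a⁻¹ * b) := by rw [← map_mul, mul_inv_cancel_left]
    have hb' : c b⁻¹ = c (a⁻¹ * b)⁻¹ * c a⁻¹ := by rw [← map_mul]; congr 1; group
    show c a * e * c a⁻¹ = c b * e * c b⁻¹
    rw [hb, hb', mul_assoc (c a) (c (a⁻¹ * b)), ← (he _ hn).eq]
    simp only [mul_assoc]
    rw [← mul_assoc (c (a⁻¹ * b)), ← map_mul, mul_inv_cancel, map_one, one_mul]

theorem transport_smul (c : G →* Module.End k W) (H : Subgroup G) (e : Module.End k W)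
    (he : ∀ g ∈ H, Commute e (c g)) (g : G) (q : G ⧸ H) :
    transport c H e he (g • q) = c g * transport c H e he q * c g⁻¹ := by
  induction q using QuotientGroup.induction_on with
  | H b =>
    show c (g * b) * e * c (g * b)⁻¹ = c g * (c b * e * c b⁻¹) * c g⁻¹
    rw [mul_inv_rev, map_mul, map_mul]
    simp only [mul_assoc]

/-- A lift to `G` of an idempotent commuting with the normalizer of a subgroup of order `p`. -/
theorem exists_lift [Finite G] {p : ℕ} [Fact p.Prime] [CharP k p] (c : G →* Module.End k W)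
    {x : G} (hx : orderOf x = p) (hG : ¬ p ^ 2 ∣ Nat.card G) (hW : (c x - 1) ^ (p - 1) = 0)
    (e : Module.End k W) (he : ∀ w, e (e w) = e w)
    (heN : ∀ g ∈ Subgroup.normalizer (Subgroup.zpowers x : Set G), Commute e (c g)) :
    ∃ Φ : Module.End k W, (∀ g, Commute Φ (c g)) ∧
      IsCompl (LinearMap.ker Φ) (LinearMap.range Φ) ∧
      Module.finrank k (LinearMap.range Φ) = Module.finrank k (LinearMap.range e) ∧
      (∀ w ∈ LinearMap.range Φ, e w = 0 → w = 0) ∧
      (∀ w, c x w = w → Φ w = e w) ∧
      ∀ B : W →ₗ[k] W →ₗ[k] k, (∀ g u v, B (c g u) (c g v) = B u v) →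
        (∀ u v, B (e u) v = B u (e v)) → ∀ u v, B (Φ u) v = B u (Φ v) := by
  classical
  set H := Subgroup.normalizer (Subgroup.zpowers x : Set G) with hH
  haveI := Fintype.ofFinite (G ⧸ H)
  set f := transport c H e heN with hf
  have hinv : ∀ g : G, c g * c g⁻¹ = 1 := fun g => by rw [← map_mul, mul_inv_cancel, map_one]
  have hxH : x ∈ H := Subgroup.le_normalizer (Subgroup.mem_zpowers x)
  -- the sum over the cosets
  set F := ∑ q : G ⧸ H, f q with hF
  have hFc : ∀ g, Commute F (c g) := by
    intro g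
    show F * c g = c g * F
    rw [hF, Finset.sum_mul, Finset.mul_sum]
    refine Fintype.sum_equiv (MulAction.toPerm g⁻¹) _ _ fun q => ?_
    show f q * c g = c g * f (g⁻¹ • q)
    rw [hf, transport_smul, inv_inv]
    simp only [← mul_assoc, hinv, one_mul]
  have hpow : ∀ {w}, c x w = w → ∀ i : ℕ, c (x ^ i) w = w := by
    intro w hw i
    induction i with
    | zero => simp
    | succ i ih => rw [pow_succ, map_mul, Module.End.mul_apply, hw, ih]
  have hpow' : ∀ {w}, c x w = w → ∀ i : ℕ, c (x ^ i)⁻¹ w = w := by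
    intro w hw i
    conv_lhs => rw [← hpow hw i, ← Module.End.mul_apply, ← map_mul, inv_mul_cancel]
    simp
  have hFe : ∀ w, c x w = w → F w = e w := by
    intro w hw
    set q₀ : G ⧸ H := ((1 : G) : G ⧸ H) with hq₀
    have hstab : ∀ q : G ⧸ H, x • q = q → q = q₀ := by
      intro q
      induction q using QuotientGroup.induction_on with
      | H b =>
        intro h
        have h1 : (x * b)⁻¹ * b ∈ H := QuotientGroup.eq.1 h
        have h2 : b⁻¹ * x * b ∈ H := by
          have := inv_mem h1
          rwa [mul_inv_rev, inv_inv, ← mul_assoc] at this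
        have h3 : b⁻¹ * x * b ∈ Subgroup.zpowers x := by
          refine mem_zpowers_of_orderOf hx hG h2 ?_
          rw [show b⁻¹ * x * b = b⁻¹ * x * (b⁻¹)⁻¹ by rw [inv_inv], conj_pow, ← hx,
            pow_orderOf_eq_one]
          simp
        have hord : orderOf (b⁻¹ * x * b) = p := by
          rw [show b⁻¹ * x * b = MulAut.conj b⁻¹ x by simp [MulAut.conj_apply],
            MulEquiv.orderOf_eq, hx]
        have heq : Subgroup.zpowers (b⁻¹ * x * b) = Subgroup.zpowers x :=
          Subgroup.eq_of_le_of_card_ge (Subgroup.zpowers_le.2 h3)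
            (by rw [Nat.card_zpowers, Nat.card_zpowers, hx, hord])
        apply QuotientGroup.eq.2
        rw [mul_one]
        refine inv_mem ?_
        rw [hH, Subgroup.mem_normalizer_iff'']
        intro h
        constructor
        · intro hh
          obtain ⟨i, rfl⟩ := hh
          rw [← heq]
          refine ⟨i, ?_⟩
          show (b⁻¹ * x * b) ^ i = b⁻¹ * x ^ i * b
          rw [show b⁻¹ * x * b = b⁻¹ * x * (b⁻¹)⁻¹ by rw [inv_inv], conj_zpow, inv_inv]
        · intro hh
          rw [← heq] at hh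
          obtain ⟨i, hi⟩ := hh
          change (b⁻¹ * x * b) ^ i = _ at hi
          rw [show b⁻¹ * x * b = b⁻¹ * x * (b⁻¹)⁻¹ by rw [inv_inv], conj_zpow, inv_inv] at hi
          exact ⟨i, mul_left_cancel (mul_right_cancel hi)⟩
    have hsumsub : ∀ S : Finset (G ⧸ H), (∀ q ∈ S, x • q ∈ S) → q₀ ∉ S →
        ∑ q ∈ S, f q w = 0 := by
      intro S
      induction S using Finset.strongInduction with
      | H S ih =>
        intro hS hq
        rcases S.eq_empty_or_nonempty with rfl | ⟨a, ha⟩
        · simp
        have hmem : ∀ i : ℕ, x ^ i • a ∈ S := by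
          intro i
          induction i with
          | zero => simpa using ha
          | succ i ih' => rw [pow_succ', mul_smul]; exact hS _ ih'
        have hxp : x ^ p = 1 := by rw [← hx, pow_orderOf_eq_one]
        set O := (Finset.range p).image fun i => x ^ i • a with hO
        have hinj : Set.InjOn (fun i : ℕ => x ^ i • a) (Finset.range p) := by
          have key : ∀ i j : ℕ, i < j → j < p → x ^ i • a = x ^ j • a → False := by
            intro i j hlt hj hij
            have h0 : x ^ (j - i) • a = a := by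
              have h' : x ^ i • (x ^ (j - i) • a) = x ^ i • a := by
                rw [← mul_smul, ← pow_add, Nat.add_sub_cancel' hlt.le]; exact hij.symm
              exact (MulAction.injective (x ^ i)) h'
            obtain ⟨u, hu⟩ : ∃ u : ℕ, (x ^ (j - i)) ^ u = x := by
              refine exists_pow_eq_self_of_coprime ?_
              rw [hx]
              exact Nat.Coprime.symm ((Fact.out : p.Prime).coprime_iff_not_dvd.2
                (Nat.not_dvd_of_pos_of_lt (by omega) (by omega)))
            have h1 : x • a = a := by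
              rw [← hu]
              clear hu
              induction u with
              | zero => simp
              | succ u ihu => rw [pow_succ, mul_smul, h0, ihu]
            exact hq (hstab a h1 ▸ ha)
          intro i hi j hj hij
          rw [Finset.coe_range, Set.mem_Iio] at hi hj
          rcases Nat.lt_trichotomy i j with h | h | h
          · exact (key i j h hj hij).elim
          · exact h
          · exact (key j i h hi hij.symm).elim
        have hOS : O ⊆ S := by
          intro q hq'
          obtain ⟨i, -, rfl⟩ := Finset.mem_image.1 hq'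
          exact hmem i
        have hOx : ∀ q : G ⧸ H, x • q ∈ O → q ∈ O := by
          intro q hq'
          obtain ⟨i, hi, hiq⟩ := Finset.mem_image.1 hq'
          refine Finset.mem_image.2 ⟨(i + (p - 1)) % p, Finset.mem_range.2
            (Nat.mod_lt _ (Fact.out : p.Prime).pos), ?_⟩
          have hred : x ^ ((i + (p - 1)) % p) = x ^ (i + (p - 1)) := by
            rw [← hx, pow_mod_orderOf]
          rw [hred, add_comm, pow_add, mul_smul, hiq, ← mul_smul, ← pow_succ,
            Nat.sub_add_cancel (Fact.out : p.Prime).one_le, hxp, one_smul]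
        rw [← Finset.sum_sdiff hOS, ih (S \ O) ?_ ?_ (fun h => hq (Finset.mem_sdiff.1 h).1),
          zero_add, hO, Finset.sum_image hinj]
        · have : ∀ i : ℕ, f (x ^ i • a) w = (c x ^ i) (f a w) := fun i => by
            rw [hf, transport_smul, Module.End.mul_apply, Module.End.mul_apply, hpow' hw, map_pow]
          rw [Finset.sum_congr rfl fun i _ => this i, ← LinearMap.sum_apply, sum_pow_eq (p := p),
            hW]
          rfl
        · exact Finset.sdiff_ssubset hOS ⟨a, Finset.mem_image.2 ⟨0, Finset.mem_range.2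
            (Fact.out : p.Prime).pos, by simp⟩⟩
        · intro q hq'
          rw [Finset.mem_sdiff] at hq' ⊢
          exact ⟨hS q hq'.1, fun h => hq'.2 (hOx q h)⟩
    have hq₀x : x • q₀ = q₀ := QuotientGroup.eq.2 (by simpa using inv_mem hxH)
    rw [hF, LinearMap.sum_apply, ← Finset.add_sum_erase _ _ (Finset.mem_univ q₀),
      hsumsub _ (fun q hq => Finset.mem_erase.2 ⟨fun h => (Finset.mem_erase.1 hq).1
        ((MulAction.injective x) (h.trans hq₀x.symm)), Finset.mem_univ _⟩)
        (Finset.notMem_erase _ _), add_zero]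
    show (c 1 * e * c 1⁻¹) w = e w
    simp
  have hFpow : ∀ n, 1 ≤ n → ∀ w, c x w = w → (F ^ n) w = e w := by
    intro n hn
    induction n, hn using Nat.le_induction with
    | base => intro w hw; rw [pow_one, hFe w hw]
    | succ n hn ih =>
      intro w hw
      rw [pow_succ, Module.End.mul_apply, hFe w hw, ih (e w) ?_, he]
      rw [← Module.End.mul_apply, ← (heN x hxH).eq, Module.End.mul_apply, hw]
  obtain ⟨n₀, hn₀⟩ := Filter.eventually_atTop.1 F.eventually_isCompl_ker_pow_range_pow
  set n := n₀ + 1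
  have hcompl := hn₀ n (by omega)
  have hfix : ∀ w, c x w = w → (F ^ n) w = e w := hFpow n (by omega)
  have hΦc : ∀ g, Commute (F ^ n) (c g) := fun g => (hFc g).pow_left n
  have hnil : (c x - 1) ^ (p - 1) = 0 := hW
  have hfixed : ∀ S : Submodule k W, (∀ v ∈ S, c x v ∈ S) →
      (∀ s ∈ S, c x s = s → s = 0) → S = ⊥ := by
    intro S hS h0
    by_contra hne
    obtain ⟨s, hs, hs0, hN⟩ := exists_fixed hnil
      (S := S) (fun v hv => by
        rw [LinearMap.sub_apply, Module.End.one_apply]; exact S.sub_mem (hS v hv) hv) hne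
    exact hs0 (h0 s hs (by rwa [LinearMap.sub_apply, Module.End.one_apply, sub_eq_zero] at hN))
  have hex : ∀ v, c x (e v) = e (c x v) := fun v =>
    (LinearMap.congr_fun (heN x hxH).eq v).symm
  have hΦx : ∀ v, c x ((F ^ n) v) = (F ^ n) (c x v) := fun v =>
    (LinearMap.congr_fun (hΦc x).eq v).symm
  have hkill : ∀ w ∈ LinearMap.range (F ^ n), e w = 0 → w = 0 := by
    have h : LinearMap.range (F ^ n) ⊓ LinearMap.ker e = ⊥ := by
      refine hfixed _ ?_ ?_
      · rintro v ⟨⟨u, rfl⟩, hv⟩
        refine ⟨⟨c x u, (hΦx u).symm⟩, ?_⟩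
        show e (c x _) = 0
        rw [← hex, show e ((F ^ n) u) = 0 from hv, map_zero]
      · rintro s ⟨hs, hs'⟩ hsx
        have : (F ^ n) s = 0 := (hfix s hsx).trans hs'
        exact (Submodule.eq_bot_iff _).1 (disjoint_iff.1 hcompl.disjoint) s ⟨this, hs⟩
    exact fun w hw hw' => (Submodule.eq_bot_iff _).1 h w ⟨hw, hw'⟩
  refine ⟨F ^ n, hΦc, hcompl, le_antisymm ?_ ?_, hkill, hfix, ?_⟩
  · refine LinearMap.finrank_le_finrank_of_injective
      (f := (e.domRestrict (LinearMap.range (F ^ n))).codRestrict (LinearMap.range e)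
        fun v => ⟨_, rfl⟩) ?_
    rw [← LinearMap.ker_eq_bot, Submodule.eq_bot_iff]
    rintro ⟨w, hw⟩ h
    exact Subtype.ext (hkill w hw (congrArg Subtype.val h))
  · have h : LinearMap.range e ⊓ LinearMap.ker (F ^ n) = ⊥ := by
      refine hfixed _ ?_ ?_
      · rintro v ⟨⟨u, rfl⟩, hv⟩
        refine ⟨⟨c x u, (hex u).symm⟩, ?_⟩
        show (F ^ n) (c x _) = 0
        rw [← hΦx, show (F ^ n) (e u) = 0 from hv, map_zero]
      · rintro s ⟨⟨u, rfl⟩, hs'⟩ hsx
        rw [← he u, ← hfix _ hsx]
        exact hs'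
    refine LinearMap.finrank_le_finrank_of_injective
      (f := ((F ^ n).domRestrict (LinearMap.range e)).codRestrict (LinearMap.range (F ^ n))
        fun v => ⟨_, rfl⟩) ?_
    rw [← LinearMap.ker_eq_bot, Submodule.eq_bot_iff]
    rintro ⟨w, hw⟩ h'
    exact Subtype.ext ((Submodule.eq_bot_iff _).1 h w ⟨hw, congrArg Subtype.val h'⟩)
  · intro B hB hBe
    have hBF : ∀ u v, B (F u) v = B u (F v) := by
      intro u v
      rw [hF, LinearMap.sum_apply, LinearMap.sum_apply, map_sum, LinearMap.sum_apply, map_sum]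
      refine Finset.sum_congr rfl fun q _ => ?_
      induction q using QuotientGroup.induction_on with
      | H b =>
        show B ((c b * e * c b⁻¹) u) v = B u ((c b * e * c b⁻¹) v)
        simp only [Module.End.mul_apply]
        have hcancel : ∀ w, c b (c b⁻¹ w) = w := fun w => by
          rw [← Module.End.mul_apply, hinv, Module.End.one_apply]
        conv_lhs => rw [← hcancel v, hB, hBe, ← hB b, hcancel]
    suffices ∀ (m : ℕ) u v, B ((F ^ m) u) v = B u ((F ^ m) v) from this n
    intro m
    induction m with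
    | zero => simp
    | succ m ih =>
      intro u v
      rw [pow_succ', Module.End.mul_apply, hBF, ih, ← Module.End.mul_apply, ← pow_succ,
        pow_succ']

/-- An irreducible representation is indecomposable over the normalizer. -/
theorem eq_bot_or_eq_top [Finite G] {p : ℕ} [Fact p.Prime] [CharP k p] (c : G →* Module.End k W)
    (hirr : ∀ S : Submodule k W, (∀ g, ∀ v ∈ S, c g v ∈ S) → S = ⊥ ∨ S = ⊤)
    {x : G} (hx : orderOf x = p) (hG : ¬ p ^ 2 ∣ Nat.card G) (hW : (c x - 1) ^ (p - 1) = 0)
    (e : Module.End k W) (he : ∀ w, e (e w) = e w)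
    (heN : ∀ g ∈ Subgroup.normalizer (Subgroup.zpowers x : Set G), Commute e (c g)) :
    LinearMap.range e = ⊥ ∨ LinearMap.range e = ⊤ := by
  obtain ⟨Φ, hc, -, hr, -, -, -⟩ := exists_lift c hx hG hW e he heN
  rcases hirr (LinearMap.range Φ) (by
    rintro g v ⟨u, rfl⟩
    exact ⟨c g u, LinearMap.congr_fun (hc g).eq u⟩) with h | h
  · left
    rw [h, finrank_bot] at hr
    exact Submodule.finrank_eq_zero.1 hr.symm
  · right
    rw [h, finrank_top] at hr
    exact Submodule.eq_top_of_finrank_eq hr.symm

end Cfsg.Agent.Lib.SmallRep.Lift
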