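import Cfsg.Agent.Lib.SmallRep.Model
import Cfsg.Agent.Lib.SmallRep.Lift
import Mathlib.LinearAlgebra.Trace
import Mathlib.GroupTheory.SchurZassenhaus
import Mathlib.Algebra.CharP.Algebra
import Mathlib.LinearAlgebra.Basis.VectorSpace

/-!
# The shape of a small irreducible representation on a subgroup of order `p`

An irreducible representation of dimension less than `p` is, over the normalizer of a Sylow
subgroup of order `p`, a multiple of one Jordan block.
-/

set_option autoImplicit false
set_option linter.unusedSectionVars false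

namespace Cfsg.Agent.Lib.SmallRep.Block

open Matrix
open Cfsg.Agent.Lib.SmallRep.Model

variable {k : Type*} [Field k]

/-- A matrix acting on tuples. -/
def act {m : ℕ} (W : Type*) [AddCommGroup W] [Module k W] :
    Matrix (Fin m) (Fin m) k →ₗ[k] Module.End k (Fin m → W) where
  toFun M :=
    { toFun := fun f j => ∑ i, M j i • f i
      map_add' := fun f g => by funext j; simp [smul_add, Finset.sum_add_distrib]
      map_smul' := fun r f => by
        funext j
        simp [Finset.smul_sum, smul_smul, mul_comm] }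
  map_add' M M' := LinearMap.ext fun f => funext fun j => by
    simp [add_smul, Finset.sum_add_distrib]
  map_smul' r M := LinearMap.ext fun f => funext fun j => by
    simp [Finset.smul_sum, smul_smul]

theorem act_apply {m : ℕ} {W : Type*} [AddCommGroup W] [Module k W] (M : Matrix (Fin m) (Fin m) k)
    (f : Fin m → W) (j : Fin m) : act W M f j = ∑ i, M j i • f i := rfl

theorem act_one {m : ℕ} {W : Type*} [AddCommGroup W] [Module k W] :
    act (k := k) (m := m) W 1 = 1 := by
  refine LinearMap.ext fun f => funext fun j => ?_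
  rw [act_apply]
  simp [Matrix.one_apply, ite_smul]

theorem act_mul {m : ℕ} {W : Type*} [AddCommGroup W] [Module k W]
    (M M' : Matrix (Fin m) (Fin m) k) : act W (M * M') = act W M * act W M' := by
  refine LinearMap.ext fun f => funext fun j => ?_
  rw [Module.End.mul_apply, act_apply, act_apply]
  simp only [act_apply, Finset.smul_sum, smul_smul, Matrix.mul_apply, Finset.sum_smul]
  rw [Finset.sum_comm]

theorem trace_act {m : ℕ} {W : Type*} [AddCommGroup W] [Module k W] [FiniteDimensional k W]
    (M : Matrix (Fin m) (Fin m) k) :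
    LinearMap.trace k (Fin m → W) (act W M) = (Module.finrank k W : k) * M.trace := by
  classical
  have h : act W M = ∑ j, ∑ i, M j i •
      ((LinearMap.single k (fun _ : Fin m => W) j).comp (LinearMap.proj i)) := by
    refine LinearMap.ext fun f => funext fun l => ?_
    simp [act_apply, LinearMap.sum_apply, Finset.sum_apply, Pi.single_apply]
  rw [h, map_sum]
  simp only [map_sum, map_smul, smul_eq_mul]
  have h2 : ∀ j i : Fin m, LinearMap.trace k (Fin m → W)
      ((LinearMap.single k (fun _ : Fin m => W) j).comp (LinearMap.proj i)) =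
      if i = j then (Module.finrank k W : k) else 0 := by
    intro j i
    rw [LinearMap.trace_comp_comm']
    split_ifs with hij
    · subst hij
      rw [LinearMap.proj_comp_single_same, LinearMap.trace_id]
    · rw [LinearMap.proj_comp_single_ne _ _ _ _ hij, map_zero]
  simp only [h2, mul_ite, mul_zero, Finset.sum_ite_eq', Finset.mem_univ, if_true, Matrix.trace,
    Matrix.diag_apply]
  rw [Finset.mul_sum]
  exact Finset.sum_congr rfl fun j _ => mul_comm _ _

theorem cast_eq_iff {p : ℕ} [Fact p.Prime] [CharP k p] {a b : ℕ} (ha : a < p) (hb : b < p)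
    (h : (a : k) = (b : k)) : a = b :=
  Nat.ModEq.eq_of_lt_of_lt ((CharP.natCast_eq_natCast k p).1 h) ha hb

variable {V : Type*} [AddCommGroup V] [Module k V] [FiniteDimensional k V]
  {G : Type*} [Group G] [Finite G]

/-- The shape of the representation on the normalizer. -/
theorem exists_model {p : ℕ} [Fact p.Prime] [CharP k p] (c : G →* Module.End k V)
    (hirr : ∀ S : Submodule k V, (∀ g, ∀ v ∈ S, c g v ∈ S) → S = ⊥ ∨ S = ⊤)
    {x : G} (hx : orderOf x = p) (hG : ¬ p ^ 2 ∣ Nat.card G) (hcx : c x ≠ 1)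
    (hd : Module.finrank k V < p) :
    ∃ (m l : ℕ) (ι : Matrix (Fin m) (Fin m) k →ₐ[k] Module.End k V),
      2 ≤ m ∧ 1 ≤ l ∧ l * m = Module.finrank k V ∧ Function.Injective ι ∧
      ι (pasc k m) = c x ∧
      (∀ M, LinearMap.trace k V (ι M) = (l : k) * M.trace) ∧
      ∀ g ∈ Subgroup.normalizer (Subgroup.zpowers x : Set G), ∃ L₃ : (Fin 3 → k) → (Fin 3 → k),
        ∀ v, c g * ι (comb m v) = ι (comb m (L₃ v)) * c g := by
  classical
  set X := c x with hX
  set N := X - 1 with hNdef
  have hXp : X ^ p = 1 := by rw [hX, ← map_pow, ← hx, pow_orderOf_eq_one, map_one]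
  haveI : Nontrivial V := by
    by_contra h
    rw [not_nontrivial_iff_subsingleton] at h
    exact hcx (LinearMap.ext fun v => Subsingleton.elim _ _)
  haveI : CharP (Module.End k V) p := by
    haveI : Nontrivial (Module.End k V) := inferInstance
    exact charP_of_injective_algebraMap (algebraMap k (Module.End k V)).injective p
  have hN0 : N ^ Module.finrank k V = 0 := by
    refine Lift.pow_finrank_eq_zero ⟨p, ?_⟩
    rw [hNdef, sub_pow_char_of_commute (p := p) (Commute.one_right X), hXp, one_pow, sub_self]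
  have hex : ∃ n, N ^ n = 0 := ⟨_, hN0⟩
  set m := Nat.find hex with hm
  have hNm : N ^ m = 0 := Nat.find_spec hex
  have hmd : m ≤ Module.finrank k V := Nat.find_le hN0
  have hm2 : 2 ≤ m := by
    by_contra h
    have : N ^ 1 = 0 := by
      rw [show (1 : ℕ) = m + (1 - m) by omega, pow_add, hNm, zero_mul]
    exact hcx (sub_eq_zero.1 (by simpa [hNdef] using this))
  have hm1 : N ^ (m - 1) ≠ 0 := Nat.find_min hex (by omega)
  have hNbig : ∀ n, m ≤ n → N ^ n = 0 := fun n hn => by
    rw [← Nat.sub_add_cancel hn, pow_add, hNm, mul_zero]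
  -- the normalizer
  set H := Subgroup.normalizer (Subgroup.zpowers x : Set G) with hH
  set P := (Subgroup.zpowers x).subgroupOf H with hP
  haveI : P.Normal := by
    refine ⟨fun n hn g => ?_⟩
    rw [hP, Subgroup.mem_subgroupOf] at hn ⊢
    exact (Subgroup.mem_normalizer_iff.1 g.2 _).1 hn
  have hcardP : Nat.card P = p := by
    rw [hP, Nat.card_congr (Subgroup.subgroupOfEquivOfLe Subgroup.le_normalizer).toEquiv,
      Nat.card_zpowers, hx]
  have hndvd : ¬ p ∣ P.index := by
    intro h
    refine hG (dvd_trans ?_ H.card_subgroup_dvd_card)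
    rw [← P.card_mul_index, hcardP, pow_two]
    exact mul_dvd_mul dvd_rfl h
  obtain ⟨A, hA⟩ := Subgroup.exists_right_complement'_of_coprime (N := P) (by
    rw [hcardP]; exact (Fact.out : p.Prime).coprime_iff_not_dvd.2 hndvd)
  have hcardA : (Nat.card A : k) ≠ 0 := by
    rw [← hA.symm.index_eq_card, Ne, CharP.cast_eq_zero_iff k p]
    exact hndvd
  set cA : A →* Module.End k V := c.comp (H.subtype.comp A.subtype) with hcA
  have hAinv : ∀ a : A, cA a * cA a⁻¹ = 1 := fun a => by rw [← map_mul, mul_inv_cancel, map_one]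
  have hμ : ∀ a : A, ∃ μ : ℕ, cA a * X = X ^ μ * cA a ∧ (μ : k) ≠ 0 := by
    intro a
    set g : G := ((a : H) : G)
    have hg : g * x * g⁻¹ ∈ Subgroup.zpowers x :=
      (Subgroup.mem_normalizer_iff.1 (a : H).2 x).1 (Subgroup.mem_zpowers x)
    obtain ⟨μ, hμ⟩ := mem_powers_iff_mem_zpowers.2 hg
    refine ⟨μ, ?_, ?_⟩
    · show c g * c x = c x ^ μ * c g
      rw [← map_pow, show x ^ μ = g * x * g⁻¹ from hμ, ← map_mul, ← map_mul, inv_mul_cancel_right]
    · rw [Ne, CharP.cast_eq_zero_iff k p]
      rintro ⟨t, rfl⟩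
      have h1 : g * x * g⁻¹ = 1 := by
        rw [← hμ]
        show x ^ (p * t) = 1
        rw [pow_mul, ← hx, pow_orderOf_eq_one, one_pow]
      rw [conj_eq_one_iff] at h1
      rw [h1, orderOf_one] at hx
      exact (Fact.out : p.Prime).one_lt.ne hx
  -- a complement to the kernel
  set K := LinearMap.ker (N ^ (m - 1))
  have hKA : ∀ a, ∀ v ∈ K, cA a v ∈ K := by
    intro a v hv
    obtain ⟨μ, hμa, -⟩ := hμ a⁻¹
    obtain ⟨Q, hQ, hQc⟩ : ∃ Q, X ^ μ - 1 = Q * N ∧ Commute Q N :=
      ⟨∑ i ∈ Finset.range μ, X ^ i, by rw [geom_sum_mul], Commute.sum_left _ _ _ fun i _ =>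
        ((Commute.refl X).sub_right (Commute.one_right X)).pow_left i⟩
    have h1 : SemiconjBy (cA a⁻¹) N (Q * N) := by
      rw [← hQ]
      show _ * (X - 1) = (X ^ μ - 1) * _
      rw [mul_sub, sub_mul, hμa, mul_one, one_mul]
    have h2 := LinearMap.congr_fun (h1.pow_right (m - 1)).eq (cA a v)
    rw [hQc.mul_pow, Module.End.mul_apply, Module.End.mul_apply, Module.End.mul_apply,
      ← Module.End.mul_apply (cA a⁻¹) (cA a), ← map_mul, inv_mul_cancel, map_one,
      Module.End.one_apply, (show (N ^ (m - 1)) v = 0 from hv), map_zero] at h2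
    show (N ^ (m - 1)) (cA a v) = 0
    calc (N ^ (m - 1)) (cA a v) = (cA a) (cA a⁻¹ ((N ^ (m - 1)) (cA a v))) := by
          rw [← Module.End.mul_apply (cA a), hAinv, Module.End.one_apply]
      _ = 0 := by rw [h2, map_zero]
  obtain ⟨r, hr⟩ := LinearMap.exists_leftInverse_of_injective K.subtype K.ker_subtype
  obtain ⟨π, hπ1, hπ2, hπA, -⟩ := Lift.exists_average cA hcardA K hKA (K.subtype.comp r)
    (fun v => (r v).2) (fun v hv => congrArg Subtype.val (LinearMap.congr_fun hr ⟨v, hv⟩))
  set L := LinearMap.ker π with hL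
  have hLinj : ∀ v ∈ L, (N ^ (m - 1)) v = 0 → v = 0 := fun v hv h0 =>
    (hπ2 v h0).symm.trans hv
  have hLA : ∀ a, ∀ v ∈ L, cA a v ∈ L := fun a v hv => by
    show π (cA a v) = 0
    rw [← Module.End.mul_apply, (hπA a).eq, Module.End.mul_apply,
      (show π v = 0 from hv), map_zero]
  have hLne : L ≠ ⊥ := by
    intro h
    apply hm1
    ext v
    have : v - π v ∈ L := by
      show π (v - π v) = 0
      rw [map_sub, hπ2 _ (hπ1 v), sub_self]
    rw [h, Submodule.mem_bot, sub_eq_zero] at this
    rw [this]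
    exact hπ1 v
  -- the model
  have hcast : ∀ a b : ℕ, a < m → b < m → (a : k) = (b : k) → a = b := fun a b ha hb h =>
    cast_eq_iff (p := p) (by omega) (by omega) h
  have hnat : ∀ a : ℕ, 0 < a → a < m → (a : k) ≠ 0 := fun a h0 ha h => by
    have := cast_eq_iff (p := p) (b := 0) (show a < p by omega) (by omega) (by simpa using h)
    omega
  set N' := Matrix.toLin' (pasc k m - 1) with hN'
  have hcyc : Cyc N' (top k m) m := cyc_of_shift isShift_pasc (by omega) hnat
  set b := hcyc.basis (by omega) (Module.finrank_fin_fun k)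
  set R : (Fin m → k) →ₗ[k] Module.End k V := b.constr k fun j => N ^ j.1 with hR
  have hRpow : ∀ n, R ((N' ^ n) (top k m)) = N ^ n := by
    intro n
    rcases Nat.lt_or_ge n m with h | h
    · have := b.constr_basis k (fun j : Fin m => N ^ j.1) ⟨n, h⟩
      rw [hcyc.basis_apply] at this
      exact this
    · rw [hNbig n h, ← Nat.sub_add_cancel h, pow_add, Module.End.mul_apply, hcyc.zero, map_zero,
        map_zero]
  have hRN : ∀ u, R (N' u) = N * R u := by
    intro u
    have : R.comp N' = (LinearMap.mulLeft k N).comp R := by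
      refine b.ext fun j => ?_
      simp only [LinearMap.comp_apply, LinearMap.mulLeft_apply, b, hcyc.basis_apply]
      rw [← Module.End.mul_apply, ← pow_succ', hRpow, hRpow, pow_succ']
    exact LinearMap.congr_fun this u
  have hRtop : R (top k m) = 1 := by simpa using hRpow 0
  have hRX : ∀ u, R (pasc k m *ᵥ u) = X * R u := by
    intro u
    have h1 := hRN u
    rw [hN', Matrix.toLin'_apply, Matrix.sub_mulVec, Matrix.one_mulVec, map_sub, hNdef, sub_mul,
      one_mul, sub_left_inj] at h1
    exact h1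
  have hRpoly : ∀ (μ j : ℕ) u, R ((pasc k m ^ μ - 1) ^ j *ᵥ u) = (X ^ μ - 1) ^ j * R u := by
    have h1 : ∀ (μ : ℕ) u, R (pasc k m ^ μ *ᵥ u) = X ^ μ * R u := by
      intro μ
      induction μ with
      | zero => intro u; simp
      | succ μ ih =>
        intro u
        rw [pow_succ', ← Matrix.mulVec_mulVec, hRX, ih, pow_succ', mul_assoc]
    intro μ j
    induction j with
    | zero => intro u; simp
    | succ j ih =>
      intro u
      rw [pow_succ', ← Matrix.mulVec_mulVec, Matrix.sub_mulVec, Matrix.one_mulVec, map_sub, h1, ih,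
        pow_succ', mul_assoc (X ^ μ - 1), sub_mul, one_mul]
  -- tuples of vectors of `L`
  set Ψ : (Fin m → L) →ₗ[k] V := ∑ i, (R (Pi.single i 1)).comp (L.subtype.comp (LinearMap.proj i))
    with hΨ
  have hΨapply : ∀ f, Ψ f = ∑ i, R (Pi.single i 1) (f i : V) := fun f => by
    simp [hΨ, LinearMap.sum_apply]
  have hΨact : ∀ M f, Ψ (act L M f) = ∑ i, R (M *ᵥ Pi.single i 1) (f i : V) := by
    intro M f
    rw [hΨapply]
    simp only [act_apply, Submodule.coe_sum, Submodule.coe_smul, map_sum, map_smul]
    rw [Finset.sum_comm]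
    refine Finset.sum_congr rfl fun i _ => ?_
    have : M *ᵥ Pi.single i 1 = ∑ j, M j i • Pi.single j (1 : k) := by
      rw [← Finset.univ_sum_single (M *ᵥ Pi.single i (1 : k))]
      refine Finset.sum_congr rfl fun j _ => ?_
      rw [Matrix.mulVec_single_one, ← Pi.single_smul, smul_eq_mul, mul_one]
      rfl
    rw [this, map_sum, LinearMap.sum_apply]
    exact Finset.sum_congr rfl fun j _ => by rw [map_smul, LinearMap.smul_apply]
  set lam0 := (N ^ (m - 1)).comp L.subtype with hlam0
  obtain ⟨lam, hlam⟩ := LinearMap.exists_leftInverse_of_injective lam0 (by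
    rw [LinearMap.ker_eq_bot']
    intro v hv
    exact Subtype.ext (hLinj _ v.2 hv))
  set Λ : V →ₗ[k] (Fin m → L) := LinearMap.pi fun i => lam.comp (N ^ i.1) with hΛ
  have hΛΨ : ∀ f, Λ (Ψ f) = 0 → f = 0 := by
    intro f hf
    set q : Fin m → L := fun j => ∑ i, b.repr (Pi.single i 1) j • f i with hq
    have hy : Ψ f = ∑ j : Fin m, (N ^ j.1) (q j : V) := by
      rw [hΨapply]
      simp only [hq, hR, Submodule.coe_sum, Submodule.coe_smul, map_sum, map_smul,
        Module.Basis.constr_apply_fintype, LinearMap.sum_apply, LinearMap.smul_apply,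
        Module.Basis.equivFun_apply]
      exact Finset.sum_comm
    have hq0 : ∀ n (hn : n < m), q ⟨n, hn⟩ = 0 := by
      intro n
      induction n using Nat.strong_induction_on with
      | _ n ih =>
        intro hn
        have h1 := congrFun hf ⟨m - 1 - n, by omega⟩
        rw [hy, hΛ, LinearMap.pi_apply, LinearMap.comp_apply, map_sum,
          Finset.sum_eq_single (⟨n, hn⟩ : Fin m)] at h1
        · rw [← Module.End.mul_apply, ← pow_add, show m - 1 - n + n = m - 1 by omega] at h1
          exact (LinearMap.congr_fun hlam (q ⟨n, hn⟩)).symm.trans h1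
        · intro j _ hj
          rcases Nat.lt_or_gt_of_ne (show j.1 ≠ n from fun e => hj (Fin.ext e)) with h | h
          · rw [ih j.1 h j.2, Submodule.coe_zero, map_zero, map_zero]
          · rw [← Module.End.mul_apply, ← pow_add, hNbig _ (by show m ≤ m - 1 - n + j.1; omega)]
            rfl
        · simp
    funext l
    have h2 : f l = ∑ j, (b j) l • q j := by
      simp only [hq, Finset.smul_sum, smul_smul]
      rw [Finset.sum_comm]
      have : ∀ i, ∑ j, (b j) l * b.repr (Pi.single i 1) j = if i = l then 1 else 0 := by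
        intro i
        have h3 := congrFun (b.sum_repr (Pi.single i (1 : k))) l
        rw [Finset.sum_apply] at h3
        rw [Pi.single_apply] at h3
        rw [← (show (if l = i then (1 : k) else 0) = if i = l then 1 else 0 by simp [eq_comm]),
          ← h3]
        exact Finset.sum_congr rfl fun j _ => by rw [Pi.smul_apply, smul_eq_mul, mul_comm]
      simp only [← Finset.sum_smul, this, ite_smul, one_smul, zero_smul, Finset.sum_ite_eq',
        Finset.mem_univ, if_true]
    rw [h2]
    exact Finset.sum_eq_zero fun j _ => by rw [hq0 j.1 j.2, smul_zero]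
  have hΨinj : Function.Injective Ψ := (injective_iff_map_eq_zero Ψ).2 fun f hf =>
    hΛΨ f (by rw [hf, map_zero])
  -- the splitting over the normalizer
  let Qe := LinearEquiv.ofInjectiveEndo (Λ.comp Ψ) ((injective_iff_map_eq_zero _).2 hΛΨ)
  set π₀ : Module.End k V := Ψ.comp (Qe.symm.toLinearMap.comp Λ) with hπ₀
  have hπ₀2 : ∀ v ∈ LinearMap.range Ψ, π₀ v = v := by
    rintro v ⟨f, rfl⟩
    show Ψ (Qe.symm (Λ (Ψ f))) = Ψ f
    rw [show Λ (Ψ f) = Qe f from rfl, LinearEquiv.symm_apply_apply]
  have hπ₀1 : ∀ v, π₀ v ∈ LinearMap.range Ψ := fun v => ⟨_, rfl⟩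
  have hΨN : ∀ f, Ψ (act L (pasc k m - 1) f) = N (Ψ f) := by
    intro f
    rw [hΨact, hΨapply, map_sum]
    refine Finset.sum_congr rfl fun i _ => ?_
    rw [← Matrix.toLin'_apply, hRN, Module.End.mul_apply]
  have hπN : Commute π₀ N := by
    refine LinearMap.ext fun v => ?_
    show π₀ (N v) = N (π₀ v)
    have h1 : N (π₀ v) ∈ LinearMap.range Ψ := ⟨_, hΨN _⟩
    have h2 : Λ (v - π₀ v) = 0 := by
      rw [map_sub, sub_eq_zero]
      show Λ v = Λ (Ψ (Qe.symm (Λ v)))
      exact (LinearEquiv.apply_symm_apply Qe (Λ v)).symm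
    have h3 : Λ (N (v - π₀ v)) = 0 := by
      funext i
      show lam ((N ^ i.1) (N (v - π₀ v))) = 0
      rw [← Module.End.mul_apply, ← pow_succ]
      rcases Nat.lt_or_ge (i.1 + 1) m with h | h
      · exact congrFun h2 ⟨i.1 + 1, h⟩
      · rw [hNbig _ h]; simp
    have h4 : π₀ (N (v - π₀ v)) = 0 := by
      show Ψ (Qe.symm (Λ (N (v - π₀ v)))) = 0
      rw [h3, map_zero, map_zero]
    rw [map_sub, map_sub, sub_eq_zero, hπ₀2 _ h1] at h4
    exact h4
  have hπX : Commute π₀ X := by
    have := hπN.add_right (Commute.one_right π₀)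
    rwa [hNdef, sub_add_cancel] at this
  have hΨA : ∀ (a : A), ∃ (cc s : k), cc ≠ 0 ∧ ∀ f : Fin m → L, cA a (Ψ f) =
      s • Ψ (act L (torus m cc) fun i => ⟨cA a (f i : V), hLA a _ (f i).2⟩) := by
    intro a
    obtain ⟨μ, hμa, hμ0⟩ := hμ a
    set cc : k := (μ : k)⁻¹
    have hcc : cc ≠ 0 := inv_ne_zero hμ0
    have hT := torus_pasc (d := m) (c := cc) (m := μ) (inv_mul_cancel₀ hμ0) hcast
    set s : k := (cc ^ (m - 1))⁻¹
    have hTtop : torus m cc *ᵥ top k m = cc ^ (m - 1) • top k m := by
      funext i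
      rw [torus, Matrix.mulVec_diagonal, Pi.smul_apply, top]
      split_ifs with h
      · rw [show i.1 = m - 1 by omega, smul_eq_mul]
      · simp
    have hsemi : SemiconjBy (torus m cc) (pasc k m - 1) (pasc k m ^ μ - 1) := by
      show _ * _ = _ * _
      rw [mul_sub, sub_mul, hT, mul_one, one_mul]
    have hkey : ∀ u, cA a * R u = s • (R (torus m cc *ᵥ u) * cA a) := by
      intro u
      have : (LinearMap.mulLeft k (cA a)).comp R =
          s • ((LinearMap.mulRight k (cA a)).comp (R.comp (Matrix.toLin' (torus m cc)))) := by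
        refine b.ext fun j => ?_
        simp only [LinearMap.comp_apply, LinearMap.mulLeft_apply, LinearMap.smul_apply,
          LinearMap.mulRight_apply, b, hcyc.basis_apply, Matrix.toLin'_apply]
        have hpw : ∀ n, (N' ^ n) (top k m) = (pasc k m - 1) ^ n *ᵥ top k m := by
          intro n
          induction n with
          | zero => simp
          | succ n ih =>
            rw [pow_succ', Module.End.mul_apply, ih, hN', Matrix.toLin'_apply,
              Matrix.mulVec_mulVec, ← pow_succ']
        rw [hRpow, hpw, Matrix.mulVec_mulVec, (hsemi.pow_right j.1).eq, ← Matrix.mulVec_mulVec,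
          hTtop, Matrix.mulVec_smul, map_smul, hRpoly, hRtop, mul_one, smul_mul_assoc, smul_smul,
          inv_mul_cancel₀ (pow_ne_zero _ hcc), one_smul]
        have hs : SemiconjBy (cA a) N (X ^ μ - 1) := by
          show _ * (X - 1) = _ * _
          rw [mul_sub, sub_mul, hμa, mul_one, one_mul]
        exact (hs.pow_right j.1).eq
      exact LinearMap.congr_fun this u
    refine ⟨cc, s, hcc, fun f => ?_⟩
    rw [hΨapply, hΨact, map_sum, Finset.smul_sum]
    refine Finset.sum_congr rfl fun i _ => ?_
    rw [← Module.End.mul_apply, hkey, LinearMap.smul_apply, Module.End.mul_apply]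
  obtain ⟨e, he1, he2, heA, heT⟩ := Lift.exists_average cA hcardA (LinearMap.range Ψ) (by
    rintro a v ⟨f, rfl⟩
    obtain ⟨cc, s, -, hcs⟩ := hΨA a
    rw [hcs]
    exact Submodule.smul_mem _ _ ⟨_, rfl⟩) π₀ hπ₀1 hπ₀2
  have heX : Commute e X := by
    refine heT X fun a => ?_
    obtain ⟨μ, hμa, -⟩ := hμ a⁻¹
    rw [hμa, mul_assoc, ← map_mul, inv_mul_cancel, map_one, mul_one]
    exact hπX.pow_right μ
  -- elements of the normalizer are a power of `x` times an element of the complement
  have hHdec : ∀ g ∈ H, ∃ (i : ℕ) (a : A), g = x ^ i * ((a : H) : G) := by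
    intro g hg
    obtain ⟨⟨⟨u, hu⟩, a⟩, hua⟩ := hA.2 ⟨g, hg⟩
    have hu' : (u : G) ∈ Subgroup.zpowers x := hu
    obtain ⟨i, hi⟩ := mem_powers_iff_mem_zpowers.2 hu'
    exact ⟨i, a, by rw [show x ^ i = (u : G) from hi]; exact (congrArg Subtype.val hua).symm⟩
  have heH : ∀ g ∈ H, Commute e (c g) := by
    intro g hg
    obtain ⟨i, a, rfl⟩ := hHdec g hg
    rw [map_mul, map_pow]
    exact (heX.pow_right i).mul_right (heA a)
  have hW : N ^ (p - 1) = 0 := hNbig _ (by omega)
  have hΨsurj : LinearMap.range Ψ = ⊤ := by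
    have hre : LinearMap.range e = LinearMap.range Ψ :=
      le_antisymm (by rintro v ⟨u, rfl⟩; exact he1 u) fun v hv => ⟨v, he2 v hv⟩
    rcases Lift.eq_bot_or_eq_top c hirr hx hG hW e (fun w => he2 _ (he1 w)) heH with h | h
    · exfalso
      rw [hre, LinearMap.range_eq_bot] at h
      obtain ⟨v, hv, hv0⟩ := Submodule.exists_mem_ne_zero_of_ne_bot hLne
      have h5 : (fun _ => ⟨v, hv⟩ : Fin m → L) = 0 := hΨinj (by rw [h]; rfl)
      exact hv0 (congrArg Subtype.val (congrFun h5 ⟨0, by omega⟩))
    · rw [← hre, h]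
  set Ψe := LinearEquiv.ofBijective Ψ ⟨hΨinj, LinearMap.range_eq_top.1 hΨsurj⟩ with hΨe
  let ι : Matrix (Fin m) (Fin m) k →ₐ[k] Module.End k V :=
    AlgHom.ofLinearMap (Ψe.conj.toLinearMap.comp (act L)) (by
        refine LinearMap.ext fun v => ?_
        show Ψe (act L 1 (Ψe.symm v)) = v
        rw [act_one]
        exact Ψe.apply_symm_apply v) (fun M M' => by
        refine LinearMap.ext fun v => ?_
        show Ψe (act L (M * M') (Ψe.symm v)) =
          Ψe (act L M (Ψe.symm (Ψe (act L M' (Ψe.symm v)))))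
        rw [Ψe.symm_apply_apply, act_mul]
        rfl)
  have hι : ∀ M f, ι M (Ψ f) = Ψ (act L M f) := by
    intro M f
    show Ψe (act L M (Ψe.symm (Ψe f))) = _
    rw [Ψe.symm_apply_apply]
    rfl
  have hsurj : Function.Surjective Ψ := LinearMap.range_eq_top.1 hΨsurj
  obtain ⟨v₀, hv₀, hv₀0⟩ := Submodule.exists_mem_ne_zero_of_ne_bot hLne
  refine ⟨m, Module.finrank k L, ι, hm2, ?_, ?_, ?_, ?_, ?_, ?_⟩
  · exact Submodule.one_le_finrank_iff.2 hLne
  · rw [← Ψe.finrank_eq, Module.finrank_pi_fintype]
    simp [mul_comm]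
  · intro M M' h
    ext j i
    have h1 := hι M (Pi.single i ⟨v₀, hv₀⟩)
    rw [h, hι] at h1
    have h2 := congrFun (hΨinj h1) j
    simp only [act_apply, Pi.single_apply, smul_ite, smul_zero, Finset.sum_ite_eq',
      Finset.mem_univ, if_true] at h2
    exact (smul_left_injective k (show (⟨v₀, hv₀⟩ : L) ≠ 0 from
      fun e => hv₀0 (congrArg Subtype.val e)) h2).symm
  · refine LinearMap.ext fun v => ?_
    obtain ⟨f, rfl⟩ := hsurj v
    rw [hι, show pasc k m = pasc k m - 1 + 1 by rw [sub_add_cancel], map_add,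
      LinearMap.add_apply, map_add, hΨN, act_one, Module.End.one_apply, hNdef,
      LinearMap.sub_apply, Module.End.one_apply, sub_add_cancel]
  · intro M
    show LinearMap.trace k V (Ψe.conj (act L M)) = _
    rw [LinearMap.trace_conj', trace_act]
  · intro g hg
    obtain ⟨i, a, rfl⟩ := hHdec g hg
    obtain ⟨cc, s, hcc, hcs⟩ := hΨA a
    have ha : ∀ v : Fin 3 → k, cA a * ι (comb m v) =
        ι (comb m ![v 0, cc⁻¹ * v 1, cc * v 2]) * cA a := by
      intro v
      refine LinearMap.ext fun y => ?_
      obtain ⟨f, rfl⟩ := hsurj y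
      simp only [Module.End.mul_apply]
      rw [hι, hcs, hcs, map_smul, hι]
      congr 2
      simp only [← Module.End.mul_apply, ← act_mul]
      rw [← torus_comb cc hcc, act_mul, Module.End.mul_apply]
      congr 1
      funext j
      refine Subtype.ext ?_
      simp only [act_apply, Submodule.coe_sum, Submodule.coe_smul, map_sum, map_smul]
    have hxs : ι (pasc k m) = X := by
      refine LinearMap.ext fun v => ?_
      obtain ⟨f, rfl⟩ := hsurj v
      rw [hι, show pasc k m = pasc k m - 1 + 1 by rw [sub_add_cancel], map_add,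
        LinearMap.add_apply, map_add, hΨN, act_one, Module.End.one_apply, hNdef,
        LinearMap.sub_apply, Module.End.one_apply, sub_add_cancel]
    have hxi : ∀ (i : ℕ) (v : Fin 3 → k), ∃ w, X ^ i * ι (comb m v) = ι (comb m w) * X ^ i := by
      intro i
      induction i with
      | zero => exact fun v => ⟨v, by simp⟩
      | succ i ih =>
        intro v
        obtain ⟨w, hw⟩ := ih v
        refine ⟨![w 0 + w 2, -2 * w 0 + w 1 - w 2, w 2], ?_⟩
        rw [pow_succ', mul_assoc, hw, ← mul_assoc, ← mul_assoc]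
        congr 1
        rw [← hxs, ← map_mul, ← map_mul, pasc_comb]
    refine ⟨fun v => (hxi i ![v 0, cc⁻¹ * v 1, cc * v 2]).choose, fun v => ?_⟩
    rw [map_mul, map_pow, show c ((a : H) : G) = cA a from rfl, mul_assoc, ha, ← mul_assoc,
      (hxi i _).choose_spec, mul_assoc]

end Cfsg.Agent.Lib.SmallRep.Block
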