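import Mathlib.LinearAlgebra.Matrix.ToLin
import Mathlib.LinearAlgebra.Matrix.Trace
import Mathlib.LinearAlgebra.Dimension.Finite
import Mathlib.LinearAlgebra.FiniteDimensional.Lemmas
import Mathlib.LinearAlgebra.Vandermonde
import Mathlib.Algebra.CharP.Lemmas
import Mathlib.Tactic.LinearCombination
import Mathlib.Tactic.Ring

/-!
# A unipotent matrix with one Jordan block and the `sl₂` around it

On `k^d`, thought of as the polynomials of degree `< d`, the translation `t ↦ t + 1` is `pasc`, and
`lowE`, `diagH`, `raiseF` are the three operators of `sl₂`.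
-/

set_option autoImplicit false
set_option linter.unusedSectionVars false

namespace Cfsg.Agent.Lib.SmallRep.Model

open Matrix

variable {k : Type*} [Field k] {d : ℕ}

/-- Translation. -/
def pasc (k : Type*) [Field k] (d : ℕ) : Matrix (Fin d) (Fin d) k :=
  Matrix.of fun j i => ((Nat.choose i.1 j.1 : ℕ) : k)

/-- The derivative. -/
def lowE (k : Type*) [Field k] (d : ℕ) : Matrix (Fin d) (Fin d) k :=
  Matrix.of fun j i => if j.1 + 1 = i.1 then (i.1 : k) else 0

/-- The weight operator. -/
def diagH (k : Type*) [Field k] (d : ℕ) : Matrix (Fin d) (Fin d) k :=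
  Matrix.diagonal fun i => (d : k) - 1 - 2 * (i.1 : k)

/-- The raising operator. -/
def raiseF (k : Type*) [Field k] (d : ℕ) : Matrix (Fin d) (Fin d) k :=
  Matrix.of fun j i => if j.1 = i.1 + 1 then (d : k) - 1 - (i.1 : k) else 0

/-- A dilation. -/
def torus (d : ℕ) (c : k) : Matrix (Fin d) (Fin d) k := Matrix.diagonal fun i => c ^ i.1

/-- The combination with coordinates `v`. -/
def comb (d : ℕ) (v : Fin 3 → k) : Matrix (Fin d) (Fin d) k :=
  v 0 • diagH k d + v 1 • lowE k d + v 2 • raiseF k d

theorem mul_lowE (A : Matrix (Fin d) (Fin d) k) (j i : Fin d) :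
    (A * lowE k d) j i = if h : 1 ≤ i.1 then A j ⟨i.1 - 1, by omega⟩ * (i.1 : k) else 0 := by
  rw [Matrix.mul_apply]
  split_ifs with h
  · rw [Finset.sum_eq_single ⟨i.1 - 1, by omega⟩]
    · simp [lowE, Nat.sub_add_cancel h]
    · intro b _ hb
      have : b.1 + 1 ≠ i.1 := fun e => hb (Fin.ext (by simp; omega))
      simp [lowE, this]
    · simp
  · refine Finset.sum_eq_zero fun b _ => ?_
    have : b.1 + 1 ≠ i.1 := by omega
    simp [lowE, this]

theorem lowE_mul (A : Matrix (Fin d) (Fin d) k) (j i : Fin d) :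
    (lowE k d * A) j i = if h : j.1 + 1 < d then ((j.1 : k) + 1) * A ⟨j.1 + 1, h⟩ i else 0 := by
  rw [Matrix.mul_apply]
  split_ifs with h
  · rw [Finset.sum_eq_single ⟨j.1 + 1, h⟩]
    · simp [lowE]
    · intro b _ hb
      have : j.1 + 1 ≠ b.1 := fun e => hb (Fin.ext e.symm)
      simp [lowE, this]
    · simp
  · refine Finset.sum_eq_zero fun b _ => ?_
    have : j.1 + 1 ≠ b.1 := by omega
    simp [lowE, this]

theorem mul_raiseF (A : Matrix (Fin d) (Fin d) k) (j i : Fin d) :
    (A * raiseF k d) j i =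
      if h : i.1 + 1 < d then A j ⟨i.1 + 1, h⟩ * ((d : k) - 1 - (i.1 : k)) else 0 := by
  rw [Matrix.mul_apply]
  split_ifs with h
  · rw [Finset.sum_eq_single ⟨i.1 + 1, h⟩]
    · simp [raiseF]
    · intro b _ hb
      have : b.1 ≠ i.1 + 1 := fun e => hb (Fin.ext e)
      simp [raiseF, this]
    · simp
  · refine Finset.sum_eq_zero fun b _ => ?_
    have : b.1 ≠ i.1 + 1 := by omega
    simp [raiseF, this]

theorem raiseF_mul (A : Matrix (Fin d) (Fin d) k) (j i : Fin d) :
    (raiseF k d * A) j i =
      if h : 1 ≤ j.1 then ((d : k) - (j.1 : k)) * A ⟨j.1 - 1, by omega⟩ i else 0 := by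
  rw [Matrix.mul_apply]
  split_ifs with h
  · rw [Finset.sum_eq_single ⟨j.1 - 1, by omega⟩]
    · simp [raiseF, Nat.sub_add_cancel h, Nat.cast_sub h]
    · intro b _ hb
      have : j.1 ≠ b.1 + 1 := fun e => hb (Fin.ext (by simp; omega))
      simp [raiseF, this]
    · simp
  · refine Finset.sum_eq_zero fun b _ => ?_
    have : j.1 ≠ b.1 + 1 := by omega
    simp [raiseF, this]

theorem mul_diagH (A : Matrix (Fin d) (Fin d) k) (j i : Fin d) :
    (A * diagH k d) j i = A j i * ((d : k) - 1 - 2 * (i.1 : k)) := Matrix.mul_diagonal _ _ _ _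

theorem diagH_mul (A : Matrix (Fin d) (Fin d) k) (j i : Fin d) :
    (diagH k d * A) j i = ((d : k) - 1 - 2 * (j.1 : k)) * A j i := Matrix.diagonal_mul _ _ _ _

theorem choose_succ_cast (i j : ℕ) :
    ((j : k) + 1) * (Nat.choose i (j + 1) : k) = ((i : k) - j) * (Nat.choose i j : k) := by
  rcases Nat.lt_or_ge i j with h | h
  · rw [Nat.choose_eq_zero_of_lt h, Nat.choose_eq_zero_of_lt (by omega)]; simp
  · have h' := congrArg (fun n : ℕ => (n : k)) (Nat.choose_succ_right_eq i j)
    push_cast [Nat.cast_sub h] at h'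
    linear_combination h'

theorem lowE_pasc (j i : Fin d) :
    (lowE k d * pasc k d) j i = ((i.1 : k) - j.1) * (Nat.choose i.1 j.1 : k) := by
  rw [lowE_mul]
  split_ifs with h
  · simp only [pasc, Matrix.of_apply]
    exact choose_succ_cast _ _
  · have hj : j.1 = d - 1 := by omega
    rcases Nat.lt_or_ge i.1 j.1 with h' | h'
    · rw [Nat.choose_eq_zero_of_lt h']; simp
    · rw [show i.1 = j.1 by omega]; simp

theorem pasc_lowE : pasc k d * lowE k d = lowE k d * pasc k d := by
  ext j i
  rw [lowE_pasc, mul_lowE]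
  split_ifs with h
  · simp only [pasc, Matrix.of_apply]
    obtain ⟨n, hn⟩ : ∃ n, i.1 = n + 1 := ⟨i.1 - 1, by omega⟩
    rw [hn, Nat.add_sub_cancel]
    rcases Nat.lt_or_ge (n + 1) j.1 with h' | h'
    · rw [Nat.choose_eq_zero_of_lt h', Nat.choose_eq_zero_of_lt (by omega)]; simp
    · have h'' := congrArg (fun m : ℕ => (m : k)) (Nat.choose_mul_succ_eq n j.1)
      push_cast [Nat.cast_sub h'] at h'' ⊢
      linear_combination h''
  · rw [show i.1 = 0 by omega]
    rcases Nat.eq_zero_or_pos j.1 with h0 | h0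
    · simp [h0]
    · rw [Nat.choose_eq_zero_of_lt h0]; simp

theorem pasc_diagH :
    pasc k d * diagH k d = (diagH k d - 2 • lowE k d) * pasc k d := by
  ext j i
  rw [Matrix.sub_mul, smul_mul_assoc, Matrix.sub_apply, Matrix.smul_apply, lowE_pasc, mul_diagH,
    diagH_mul, nsmul_eq_mul]
  simp only [pasc, Matrix.of_apply]
  push_cast
  ring

theorem pasc_raiseF :
    pasc k d * raiseF k d = (raiseF k d + diagH k d - lowE k d) * pasc k d := by
  ext j i
  rw [Matrix.sub_mul, Matrix.add_mul, Matrix.sub_apply, Matrix.add_apply, lowE_pasc, diagH_mul,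
    raiseF_mul]
  have hL : (pasc k d * raiseF k d) j i =
      (Nat.choose (i.1 + 1) j.1 : k) * ((d : k) - 1 - (i.1 : k)) := by
    rw [mul_raiseF]
    split_ifs with h
    · simp [pasc]
    · have : (d : k) = (i.1 : k) + 1 := by
        have : d = i.1 + 1 := by omega
        exact_mod_cast congrArg (fun m : ℕ => (m : k)) this
      rw [this]; simp
  rw [hL]
  simp only [pasc, Matrix.of_apply]
  rcases Nat.eq_zero_or_pos j.1 with h0 | h0
  · rw [dif_neg (by omega)]
    simp [h0]
  · rw [dif_pos (show 1 ≤ j.1 from h0)]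
    obtain ⟨n, hn⟩ : ∃ n, j.1 = n + 1 := ⟨j.1 - 1, by omega⟩
    have hc := choose_succ_cast (k := k) i.1 n
    simp only [hn, Nat.add_sub_cancel, Nat.choose_succ_succ', Nat.cast_add, Nat.cast_one]
    linear_combination hc

theorem bracket_EF : lowE k d * raiseF k d - raiseF k d * lowE k d = diagH k d := by
  ext j i
  rw [Matrix.sub_apply, lowE_mul, raiseF_mul]
  by_cases hji : j = i
  · subst hji
    simp only [diagH, Matrix.diagonal_apply_eq]
    have hd : ¬ j.1 + 1 < d → (d : k) = (j.1 : k) + 1 := fun h => by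
      exact_mod_cast congrArg (fun m : ℕ => (m : k)) (show d = j.1 + 1 by omega)
    split_ifs with h1 h2 h2 <;> (try simp only [raiseF, lowE, Matrix.of_apply])
    · rw [if_pos trivial, if_pos (by omega)]; ring
    · rw [if_pos trivial, show j.1 = 0 by omega]; ring
    · rw [if_pos (by omega), hd h1]; ring
    · rw [hd h1, show j.1 = 0 by omega]; ring
  · have hne : j.1 ≠ i.1 := fun e => hji (Fin.ext e)
    simp only [diagH, Matrix.diagonal_apply_ne _ hji]
    split_ifs with h1 h2 h2 <;> (try simp only [raiseF, lowE, Matrix.of_apply]) <;>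
      first
        | rw [if_neg (by omega), if_neg (by omega)]; simp
        | rw [if_neg (by omega)]; simp
        | simp

theorem bracket_HE : diagH k d * lowE k d - lowE k d * diagH k d = 2 • lowE k d := by
  ext j i
  rw [Matrix.sub_apply, diagH_mul, mul_diagH, Matrix.smul_apply, nsmul_eq_mul]
  by_cases h : j.1 + 1 = i.1
  · have : (i.1 : k) = (j.1 : k) + 1 := by rw [← h]; simp
    simp only [lowE, Matrix.of_apply, if_pos h, this]
    push_cast
    ring
  · simp [lowE, h]

theorem bracket_HF : diagH k d * raiseF k d - raiseF k d * diagH k d = -(2 • raiseF k d) := by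
  ext j i
  rw [Matrix.sub_apply, diagH_mul, mul_diagH, Matrix.neg_apply, Matrix.smul_apply, nsmul_eq_mul]
  by_cases h : j.1 = i.1 + 1
  · have : (j.1 : k) = (i.1 : k) + 1 := by rw [h]; simp
    simp only [raiseF, Matrix.of_apply, if_pos h, this]
    push_cast
    ring
  · simp [raiseF, h]

/-- Six times the trace of `EF`. -/
theorem trace_EF : 6 * (lowE k d * raiseF k d).trace = (d : k) * ((d : k) + 1) * ((d : k) - 1) := by
  have hdiag : ∀ i : Fin d, (lowE k d * raiseF k d) i i = ((i.1 : k) + 1) * ((d : k) - 1 - i.1) := by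
    intro i
    rw [lowE_mul]
    split_ifs with h
    · simp [raiseF]
    · have : (d : k) = (i.1 : k) + 1 := by
        exact_mod_cast congrArg (fun m : ℕ => (m : k)) (show d = i.1 + 1 by omega)
      rw [this]; simp
  have hsum : ∀ (a : k) (n : ℕ), 6 * ∑ i ∈ Finset.range n, ((i : k) + 1) * (a - i) =
      (n : k) * ((n : k) + 1) * (3 * a - 2 * n + 2) := by
    intro a n
    induction n with
    | zero => simp
    | succ n ih => rw [Finset.sum_range_succ, mul_add, ih]; push_cast; ring
  rw [Matrix.trace]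
  simp only [Matrix.diag_apply, hdiag]
  rw [← Finset.sum_range fun i => ((i : k) + 1) * ((d : k) - 1 - i), hsum]
  ring

theorem trace_form (v w : Fin 3 → k) (h2 : (2 : k) ≠ 0) :
    (comb d v * comb d w).trace =
      (2 * v 0 * w 0 + v 1 * w 2 + v 2 * w 1) * (lowE k d * raiseF k d).trace := by
  set E := lowE k d
  set H := diagH k d
  set F := raiseF k d
  have hef : E * F - F * E = H := bracket_EF
  have hhe : H * E - E * H = 2 • E := bracket_HE
  have hhf : H * F - F * H = -(2 • F) := bracket_HF
  have c : ∀ A B : Matrix (Fin d) (Fin d) k, (A * B).trace = (B * A).trace := Matrix.trace_mul_comm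
  have hHE : (H * E).trace = 0 := by
    rw [← hef, sub_mul, Matrix.trace_sub, mul_assoc, mul_assoc, c E (F * E), mul_assoc, sub_self]
  have hHF : (H * F).trace = 0 := by
    rw [← hef, sub_mul, Matrix.trace_sub, mul_assoc, mul_assoc, c F (E * F), mul_assoc, sub_self]
  have hEE : (E * E).trace = 0 := by
    have h := congrArg (fun X : Matrix (Fin d) (Fin d) k => (X * E).trace) hhe
    simp only [sub_mul, Matrix.trace_sub, smul_mul_assoc, Matrix.trace_smul, mul_assoc] at h
    rw [c E (H * E), mul_assoc, sub_self, nsmul_eq_mul] at h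
    exact (mul_eq_zero.1 h.symm).resolve_left (by simpa using h2)
  have hFF : (F * F).trace = 0 := by
    have h := congrArg (fun X : Matrix (Fin d) (Fin d) k => (X * F).trace) hhf
    simp only [sub_mul, neg_mul, Matrix.trace_sub, Matrix.trace_neg, smul_mul_assoc,
      Matrix.trace_smul, mul_assoc] at h
    rw [c F (H * F), mul_assoc, sub_self, nsmul_eq_mul] at h
    exact (mul_eq_zero.1 (neg_eq_zero.1 h.symm)).resolve_left (by simpa using h2)
  have hHH : (H * H).trace = 2 * (E * F).trace := by
    have h1 : (H * H).trace = (E * (F * H - H * F)).trace := by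
      conv_lhs => arg 1; arg 1; rw [← hef]
      rw [sub_mul, Matrix.trace_sub, mul_sub, Matrix.trace_sub, mul_assoc, mul_assoc,
        c F (E * H), mul_assoc]
    rw [h1, ← neg_sub, hhf, neg_neg, mul_smul_comm, Matrix.trace_smul, nsmul_eq_mul]
    norm_num
  simp only [comb, add_mul, mul_add, smul_mul_assoc, mul_smul_comm, Matrix.trace_add,
    Matrix.trace_smul, smul_eq_mul]
  rw [hHE, hHF, hEE, hFF, hHH, c E H, c F H, c F E, hHE, hHF]
  ring

theorem torus_pasc {c : k} {m : ℕ} (hm : c * (m : k) = 1) (hd : ∀ a b : ℕ, a < d → b < d → (a : k) = (b : k) → a = b) :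
    torus d c * pasc k d = pasc k d ^ m * torus d c := by
  classical
  let w : k → Fin d → k := fun s i => s ^ i.1
  have hX : ∀ s, w s ᵥ* pasc k d = w (s + 1) := by
    intro s
    funext i
    show ∑ j : Fin d, s ^ j.1 * (Nat.choose i.1 j.1 : k) = (s + 1) ^ i.1
    rw [add_pow, ← Finset.sum_range (fun j => s ^ j * (Nat.choose i.1 j : k)),
      ← Finset.sum_subset (s₁ := Finset.range (i.1 + 1))]
    · exact Finset.sum_congr rfl fun j _ => by simp
    · intro j hj
      have := Finset.mem_range.1 hj
      exact Finset.mem_range.2 (by omega)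
    · intro j _ hj
      rw [Nat.choose_eq_zero_of_lt (by simpa using hj)]; simp
  have hXm : ∀ (n : ℕ) s, w s ᵥ* (pasc k d ^ n) = w (s + n) := by
    intro n
    induction n with
    | zero => intro s; simp
    | succ n ih =>
      intro s
      rw [pow_succ, ← Matrix.vecMul_vecMul, ih, hX]
      push_cast
      rw [add_assoc]
  have hT : ∀ s, w s ᵥ* torus d c = w (c * s) := by
    intro s
    funext i
    rw [torus, Matrix.vecMul_diagonal]
    simp [w, mul_pow, mul_comm]
  have key : ∀ s : k, w s ᵥ* (torus d c * pasc k d) = w s ᵥ* (pasc k d ^ m * torus d c) := by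
    intro s
    rw [← Matrix.vecMul_vecMul, ← Matrix.vecMul_vecMul, hT, hX, hXm, hT]
    congr 1
    linear_combination -hm
  set V : Matrix (Fin d) (Fin d) k := Matrix.vandermonde fun a : Fin d => (a.1 : k) with hV
  have hdet : V.det ≠ 0 := Matrix.det_vandermonde_ne_zero_iff.2 fun a b h =>
    Fin.ext (hd a.1 b.1 a.2 b.2 h)
  have hVeq : V * (torus d c * pasc k d) = V * (pasc k d ^ m * torus d c) := by
    ext a i
    exact congrFun (key (a.1 : k)) i
  exact (Matrix.isUnit_iff_isUnit_det V |>.2 (isUnit_iff_ne_zero.2 hdet)).mul_left_cancel hVeq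

theorem torus_comb (c : k) (hc : c ≠ 0) (v : Fin 3 → k) :
    torus d c * comb d v = comb d ![v 0, c⁻¹ * v 1, c * v 2] * torus d c := by
  ext j i
  rw [torus, Matrix.diagonal_mul, Matrix.mul_diagonal]
  simp only [comb, diagH, lowE, raiseF, Matrix.add_apply, Matrix.smul_apply, Matrix.of_apply,
    smul_eq_mul, Matrix.cons_val_zero, Matrix.cons_val_one, Matrix.cons_val_two, Matrix.head_cons,
    Matrix.tail_cons, Matrix.diagonal_apply]
  by_cases h0 : j = i
  · subst h0
    rw [if_pos rfl, if_neg (by omega), if_neg (by omega)]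
    ring
  · have : j.1 ≠ i.1 := fun e => h0 (Fin.ext e)
    rw [if_neg h0]
    by_cases h1 : j.1 + 1 = i.1
    · rw [if_pos h1, if_neg (by omega), ← h1, pow_succ]
      push_cast
      field_simp
      ring
    · rw [if_neg h1]
      by_cases h2 : j.1 = i.1 + 1
      · rw [if_pos h2, h2, pow_succ]; ring
      · rw [if_neg h2]; ring

theorem pasc_comb (v : Fin 3 → k) :
    pasc k d * comb d v = comb d ![v 0 + v 2, -2 * v 0 + v 1 - v 2, v 2] * pasc k d := by
  simp only [comb, mul_add, mul_smul_comm, pasc_lowE, pasc_diagH, pasc_raiseF, sub_mul, add_mul,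
    smul_sub, smul_add, smul_mul_assoc, Matrix.cons_val_zero, Matrix.cons_val_one,
    Matrix.cons_val_two, Matrix.head_cons, Matrix.tail_cons]
  rw [← Nat.cast_smul_eq_nsmul k 2 (lowE k d * pasc k d), smul_smul]
  push_cast
  module

/-- Strictly upper triangular with the superdiagonal of the derivative. -/
structure IsShift (A : Matrix (Fin d) (Fin d) k) : Prop where
  upper : ∀ j i : Fin d, i.1 ≤ j.1 → A j i = 0
  super : ∀ j i : Fin d, j.1 + 1 = i.1 → A j i = (i.1 : k)

theorem isShift_lowE : IsShift (lowE k d) where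
  upper j i h := by simp [lowE, show j.1 + 1 ≠ i.1 by omega]
  super j i h := by simp [lowE, h]

theorem isShift_pasc : IsShift (pasc k d - 1) where
  upper j i h := by
    rcases Nat.lt_or_eq_of_le h with h' | h'
    · simp [pasc, Nat.choose_eq_zero_of_lt h', Matrix.one_apply_ne (show j ≠ i from fun e => by
        rw [e] at h'; omega)]
    · obtain rfl : j = i := Fin.ext h'.symm
      simp [pasc]
  super j i h := by
    have hne : j ≠ i := fun e => by rw [e] at h; omega
    simp [pasc, Matrix.one_apply_ne hne, ← h, Nat.choose_succ_self_right]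

/-- The top vector. -/
def top (k : Type*) [Field k] (d : ℕ) : Fin d → k := fun i => if i.1 + 1 = d then 1 else 0

theorem IsShift.pow_top {A : Matrix (Fin d) (Fin d) k} (hA : IsShift A) (m : ℕ) :
    (∀ i : Fin d, d ≤ i.1 + m → (A ^ m *ᵥ top k d) i = 0) ∧
      ∀ i : Fin d, i.1 + m + 1 = d →
        (A ^ m *ᵥ top k d) i = ∏ r ∈ Finset.range m, (((i.1 + r + 1 : ℕ)) : k) := by
  induction m with
  | zero =>
    constructor
    · intro i h; omega
    · intro i h; simp [top, show i.1 + 1 = d by omega]
  | succ m ih =>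
    have hstep : ∀ i : Fin d, (A ^ (m + 1) *ᵥ top k d) i =
        ∑ b : Fin d, A i b * (A ^ m *ᵥ top k d) b := fun i => by
      rw [pow_succ', ← Matrix.mulVec_mulVec]; rfl
    constructor
    · intro i h
      rw [hstep]
      refine Finset.sum_eq_zero fun b _ => ?_
      rcases Nat.lt_or_ge i.1 b.1 with hb | hb
      · rw [ih.1 b (by omega), mul_zero]
      · rw [hA.upper i b hb, zero_mul]
    · intro i h
      rw [hstep, Finset.sum_eq_single ⟨i.1 + 1, by omega⟩]
      · rw [hA.super i ⟨i.1 + 1, by omega⟩ rfl, ih.2 _ (by show i.1 + 1 + m + 1 = d; omega),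
          Finset.prod_range_succ']
        rw [mul_comm]
        congr 1
        exact Finset.prod_congr rfl fun r _ => by
          show ((i.1 + 1 + r + 1 : ℕ) : k) = _
          congr 1
          omega
      · intro b _ hb
        have hne : b.1 ≠ i.1 + 1 := fun e => hb (Fin.ext e)
        rcases Nat.lt_or_ge i.1 b.1 with hb' | hb'
        · rw [ih.1 b (by omega), mul_zero]
        · rw [hA.upper i b hb', zero_mul]
      · simp

/-- A vector whose iterates are a basis and are killed at the `d`-th step. -/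
structure Cyc {V : Type*} [AddCommGroup V] [Module k V] (N : Module.End k V) (v : V) (d : ℕ) :
    Prop where
  indep : LinearIndependent k fun j : Fin d => (N ^ j.1) v
  zero : (N ^ d) v = 0

theorem Cyc.of_ne {V : Type*} [AddCommGroup V] [Module k V] {N : Module.End k V} {v : V} {d : ℕ}
    (h0 : (N ^ d) v = 0) (h1 : (N ^ (d - 1)) v ≠ 0) : Cyc N v d := by
  refine ⟨?_, h0⟩
  rw [Fintype.linearIndependent_iff]
  intro c hc
  by_contra hne
  push Not at hne
  obtain ⟨j₀, hj₀⟩ := hne
  classical
  obtain ⟨j, hj, hmin⟩ := Finset.exists_min_image (Finset.univ.filter fun j => c j ≠ 0)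
    (fun j : Fin d => j.1) ⟨j₀, Finset.mem_filter.2 ⟨Finset.mem_univ _, hj₀⟩⟩
  have hN : ∀ n, d ≤ n → (N ^ n) v = 0 := fun n hn => by
    rw [← Nat.sub_add_cancel hn, pow_add, Module.End.mul_apply, h0, map_zero]
  have h2 := congrArg (N ^ (d - 1 - j.1)) hc
  rw [map_sum, map_zero, Finset.sum_eq_single j] at h2
  · rw [map_smul, ← Module.End.mul_apply, ← pow_add, show d - 1 - j.1 + j.1 = d - 1 by omega] at h2
    exact h1 ((smul_eq_zero.1 h2).resolve_left (Finset.mem_filter.1 hj).2)
  · intro b _ hb
    by_cases hcb : c b = 0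
    · simp [hcb]
    · have := hmin b (Finset.mem_filter.2 ⟨Finset.mem_univ _, hcb⟩)
      have : b.1 ≠ j.1 := fun e => hb (Fin.ext e)
      rw [map_smul, ← Module.End.mul_apply, ← pow_add, hN _ (by omega), smul_zero]
  · simp

theorem cyc_of_shift {A : Matrix (Fin d) (Fin d) k} (hA : IsShift A) (hd : 0 < d)
    (hne : ∀ a : ℕ, 0 < a → a < d → (a : k) ≠ 0) : Cyc (Matrix.toLin' A) (top k d) d := by
  have hpow : ∀ n, (Matrix.toLin' A) ^ n = Matrix.toLin' (A ^ n) := fun n => by
    induction n with
    | zero => simp [Module.End.one_eq_id]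
    | succ n ih => rw [pow_succ, pow_succ, ih, Matrix.toLin'_mul]; rfl
  refine Cyc.of_ne ?_ ?_
  · rw [hpow, Matrix.toLin'_apply]
    funext i
    exact (hA.pow_top d).1 i (by omega)
  · rw [hpow, Matrix.toLin'_apply]
    intro h
    have h1 := congrFun h ⟨0, hd⟩
    rw [(hA.pow_top (d - 1)).2 ⟨0, hd⟩ (by show 0 + (d - 1) + 1 = d; omega)] at h1
    obtain ⟨r, hr, hr0⟩ := Finset.prod_eq_zero_iff.1 h1
    have := Finset.mem_range.1 hr
    exact hne _ (by omega) (by show 0 + r + 1 < d; omega) hr0

/-- The basis of iterates. -/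
noncomputable def Cyc.basis {V : Type*} [AddCommGroup V] [Module k V] {N : Module.End k V} {v : V}
    {d : ℕ} (h : Cyc N v d) (hd : 0 < d) (hdim : Module.finrank k V = d) :
    Module.Basis (Fin d) k V :=
  haveI : Nonempty (Fin d) := ⟨⟨0, hd⟩⟩
  basisOfLinearIndependentOfCardEqFinrank h.indep (by rw [hdim, Fintype.card_fin])

theorem Cyc.basis_apply {V : Type*} [AddCommGroup V] [Module k V] {N : Module.End k V} {v : V}
    {d : ℕ} (h : Cyc N v d) (hd : 0 < d) (hdim : Module.finrank k V = d) (j : Fin d) :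
    h.basis hd hdim j = (N ^ j.1) v := by
  simp [Cyc.basis]

/-- Two cyclic pairs are equivalent. -/
theorem Cyc.exists_equiv {V W : Type*} [AddCommGroup V] [Module k V] [AddCommGroup W] [Module k W]
    {N : Module.End k V} {v : V} {M : Module.End k W} {w : W} {d : ℕ} (h : Cyc N v d)
    (h' : Cyc M w d) (hd : 0 < d) (hdV : Module.finrank k V = d) (hdW : Module.finrank k W = d) :
    ∃ φ : V ≃ₗ[k] W, φ v = w ∧ ∀ y, φ (N y) = M (φ y) := by
  let φ := (h.basis hd hdV).equiv (h'.basis hd hdW) (Equiv.refl _)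
  have hφ : ∀ n, φ ((N ^ n) v) = (M ^ n) w := by
    intro n
    rcases Nat.lt_or_ge n d with hn | hn
    · have := (h.basis hd hdV).equiv_apply ⟨n, hn⟩ (h'.basis hd hdW) (Equiv.refl _)
      simpa [Cyc.basis_apply] using this
    · rw [← Nat.sub_add_cancel hn, pow_add, pow_add, Module.End.mul_apply, Module.End.mul_apply,
        h.zero, h'.zero, map_zero, map_zero, map_zero]
  refine ⟨φ, by simpa using hφ 0, fun y => ?_⟩
  have : φ.toLinearMap.comp N = (M : W →ₗ[k] W).comp φ.toLinearMap := by
    refine (h.basis hd hdV).ext fun j => ?_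
    simp only [LinearMap.comp_apply, Cyc.basis_apply, LinearEquiv.coe_coe]
    rw [← Module.End.mul_apply, ← pow_succ', hφ, hφ, pow_succ', Module.End.mul_apply]
  exact LinearMap.congr_fun this y

/-- Everything commuting with a cyclic operator commutes with each other. -/
theorem Cyc.commute {V : Type*} [AddCommGroup V] [Module k V] {N : Module.End k V} {v : V}
    {d : ℕ} (h : Cyc N v d) (hd : 0 < d) (hdim : Module.finrank k V = d) {A B : Module.End k V}
    (hA : Commute A N) (hB : Commute B N) : Commute A B := by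
  set b := h.basis hd hdim
  have hp : ∀ (C : Module.End k V), Commute C N → ∀ n y, C ((N ^ n) y) = (N ^ n) (C y) :=
    fun C hC n y => LinearMap.congr_fun (hC.pow_right n).eq y
  obtain ⟨a, ha⟩ : ∃ a : Fin d → k, A v = ∑ i, a i • (N ^ i.1) v :=
    ⟨fun i => b.repr (A v) i, by
      conv_lhs => rw [← b.sum_repr (A v)]
      simp only [b, Cyc.basis_apply]⟩
  obtain ⟨c, hc⟩ : ∃ c : Fin d → k, B v = ∑ i, c i • (N ^ i.1) v :=
    ⟨fun i => b.repr (B v) i, by
      conv_lhs => rw [← b.sum_repr (B v)]
      simp only [b, Cyc.basis_apply]⟩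
  have hv : A (B v) = B (A v) := by
    rw [hc, map_sum, ha, map_sum]
    simp only [map_smul, hp A hA, hp B hB, ha, hc, map_sum, Finset.smul_sum]
    rw [Finset.sum_comm]
    refine Finset.sum_congr rfl fun i _ => Finset.sum_congr rfl fun l _ => ?_
    rw [smul_comm, ← Module.End.mul_apply, ← Module.End.mul_apply, ← pow_add, ← pow_add, add_comm]
  refine b.ext fun j => ?_
  show A (B (b j)) = B (A (b j))
  rw [Cyc.basis_apply, hp B hB, hp A hA, hp A hA, hp B hB, hv]

/-- Everything commuting with a cyclic operator is a combination of its powers. -/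
theorem Cyc.exists_sum {V : Type*} [AddCommGroup V] [Module k V] {N : Module.End k V} {v : V}
    {d : ℕ} (h : Cyc N v d) (hd : 0 < d) (hdim : Module.finrank k V = d) {A : Module.End k V}
    (hA : Commute A N) : ∃ a : Fin d → k, A = ∑ i, a i • N ^ i.1 := by
  set b := h.basis hd hdim
  refine ⟨fun i => b.repr (A v) i, b.ext fun j => ?_⟩
  rw [h.basis_apply, LinearMap.sum_apply]
  have h1 : A ((N ^ j.1) v) = (N ^ j.1) (A v) := LinearMap.congr_fun (hA.pow_right j.1).eq v
  rw [h1]
  conv_lhs => rw [← b.sum_repr (A v), map_sum]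
  refine Finset.sum_congr rfl fun i _ => ?_
  rw [map_smul, LinearMap.smul_apply, h.basis_apply, ← Module.End.mul_apply, ← Module.End.mul_apply,
    ← pow_add, ← pow_add, add_comm]

end Cfsg.Agent.Lib.SmallRep.Model
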